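import Groth.Agent.SpectralQuot.GeomFinite
import Groth.Agent.AlgSpLib.DecentTop
import Groth.Agent.AlgSpLib.OpenGlue
import Groth.Agent.AlgSpLib.UnivClosed
import Groth.Agent.GrpdLib.Quot.Props

/-! Opens with constant fibre count are schemes. -/

set_option autoImplicit false

universe u

open CategoryTheory CategoryTheory.Limits AlgebraicGeometry Opposite AlgSp AlgSpLib Topology TopologicalSpace

noncomputable section

namespace SpectralQuot

variable {S : Scheme.{u}} {X : Sp S} {U R : Over S} {a : (yon S).obj U ⟶ X} {t s : R ⟶ U}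
  (sq : IsPullback ((yon S).map t) ((yon S).map s) a a)

include sq in
theorem left_ext {T : Scheme.{u}} {g h : T ⟶ R.left} (e₁ : g ≫ t.left = h ≫ t.left)
    (e₂ : g ≫ s.left = h ≫ s.left) : g = h := by
  let W' : Over S := Over.mk (g ≫ R.hom)
  let g' : W' ⟶ R := Over.homMk g rfl
  let h' : W' ⟶ R := Over.homMk h (by
    show h ≫ R.hom = g ≫ R.hom
    rw [← Over.w t, ← Category.assoc, ← Category.assoc, e₁])
  have : g' = h' := (yon S).map_injective (sq.hom_ext
    (by rw [← Functor.map_comp, ← Functor.map_comp]; exact congrArg _ (Over.OverMorphism.ext e₁))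
    (by rw [← Functor.map_comp, ← Functor.map_comp]; exact congrArg _ (Over.OverMorphism.ext e₂)))
  exact congrArg CommaMorphism.left this

include sq in
theorem isSeparated_t [IsAffine U.left] : IsSeparated t.left := by
  let δ : R.left ⟶ pullback U.hom U.hom := pullback.lift t.left s.left ((Over.w t).trans (Over.w s).symm)
  haveI : Mono δ := ⟨fun {W} g h e => left_ext sq
    (by have e1 := congrArg (· ≫ pullback.fst U.hom U.hom) e
        simp only [δ, Category.assoc, pullback.lift_fst] at e1; exact e1)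
    (by have e1 := congrArg (· ≫ pullback.snd U.hom U.hom) e
        simp only [δ, Category.assoc, pullback.lift_snd] at e1; exact e1)⟩
  have e : t.left = δ ≫ pullback.fst U.hom U.hom := (pullback.lift_fst _ _ _).symm
  rw [e]; infer_instance

include sq in
/-- The count is invariant under the relation. -/
theorem atLeast_invariant [Etale t.left] {n : ℕ} (r : R.left) (h : AtLeast t.left n (t.left r)) :
    AtLeast t.left n (s.left r) := by
  obtain ⟨Ω, i₁, i₂, w, g, hw, hg, hgf⟩ := h
  obtain ⟨ρ, hρ, hρr⟩ := Scheme.exists_fac_of_etale_of_isSepClosed t.left w r (by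
    rw [← hw, Subsingleton.elim (default : Spec (CommRingCat.of Ω)) (IsLocalRing.closedPoint Ω)])
  let P : Over S := Over.mk (ρ ≫ R.hom)
  let ρ' : P ⟶ R := Over.homMk ρ rfl
  let g' : ∀ _ : Fin n, P ⟶ R := fun i => Over.homMk (g i) (by
    show g i ≫ R.hom = ρ ≫ R.hom
    rw [← Over.w t, ← Category.assoc, hgf, ← Category.assoc, hρ])
  have hgt : ∀ i, g' i ≫ t = ρ' ≫ t := fun i => Over.OverMorphism.ext ((hgf i).trans hρ.symm)
  have hc : ∀ i, ∃ l : P ⟶ R, l ≫ t = ρ' ≫ s ∧ l ≫ s = g' i ≫ s := fun i => by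
    obtain ⟨l, hl⟩ := (yon S).map_surjective (sq.lift ((yon S).map (ρ' ≫ s)) ((yon S).map (g' i ≫ s)) (by
      simp only [Functor.map_comp, Category.assoc, ← sq.w]
      rw [← Functor.map_comp_assoc, ← Functor.map_comp_assoc, hgt]))
    exact ⟨l, (yon S).map_injective (by rw [Functor.map_comp, hl, sq.lift_fst]),
      (yon S).map_injective (by rw [Functor.map_comp, hl, sq.lift_snd])⟩
  choose l hl₁ hl₂ using hc
  refine ⟨Ω, i₁, i₂, ρ ≫ s.left, fun i => (l i).left, ?_, fun i j e => hg (left_ext sq ?_ ?_),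
    fun i => congrArg CommaMorphism.left (hl₁ i)⟩
  · rw [Scheme.Hom.comp_apply, Subsingleton.elim (IsLocalRing.closedPoint Ω) (default : Spec (CommRingCat.of Ω)), hρr]
  · rw [hgf, hgf]
  · have h1 := congrArg CommaMorphism.left (hl₂ i)
    have h2 := congrArg CommaMorphism.left (hl₂ j)
    simp only [Over.comp_left, g', Over.homMk_left] at h1 h2
    rw [← h1, ← h2, show (l i).left = (l j).left from e]

/-- A finite subset of an open of an affine scheme lies in an affine open inside it. -/
theorem exists_basicOpen_of_finite {Y : Scheme.{u}} [IsAffine Y] (W : Y.Opens) {F : Set Y} (hF : F.Finite)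
    (hFW : F ⊆ W) : ∃ f : Γ(Y, ⊤), F ⊆ Y.basicOpen f ∧ Y.basicOpen f ≤ W := by
  classical
  let C : Set (PrimeSpectrum Γ(Y, ⊤)) := Y.isoSpec.hom '' (W : Set Y)ᶜ
  have hC : IsClosed C := Y.isoSpec.hom.homeomorph.isClosedMap _ W.2.isClosed_compl
  let I := PrimeSpectrum.vanishingIdeal C
  have hIC : ∀ y : Y, I ≤ (Y.isoSpec.hom y).asIdeal → y ∉ W := fun y hy hyW => by
    have h1 : Y.isoSpec.hom y ∈ PrimeSpectrum.zeroLocus (I : Set Γ(Y, ⊤)) := hy
    rw [PrimeSpectrum.zeroLocus_vanishingIdeal_eq_closure, hC.closure_eq] at h1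
    obtain ⟨z, hz, e⟩ := h1
    exact hz (Y.isoSpec.hom.homeomorph.injective e ▸ hyW)
  have hn : ¬ ((I : Set Γ(Y, ⊤)) ⊆ ⋃ y ∈ (hF.toFinset : Set Y), ((Y.isoSpec.hom y).asIdeal : Set Γ(Y, ⊤))) := by
    intro hsub
    rcases hF.toFinset.eq_empty_or_nonempty with h0 | ⟨y₀, hy₀⟩
    · simpa [h0] using hsub I.zero_mem
    · obtain ⟨y, hy, hle⟩ := (Ideal.subset_union_prime y₀ y₀ fun y _ _ _ => (Y.isoSpec.hom y).isPrime).mp hsub
      exact hIC y hle (hFW (hF.mem_toFinset.mp hy))
  obtain ⟨f, hfI, hf⟩ := Set.not_subset.mp hn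
  refine ⟨f, fun y hy => ?_, fun y hy => ?_⟩
  · rw [SetLike.mem_coe, GrpdLib.mem_basicOpen_iff_not_mem]
    exact fun h => hf (Set.mem_iUnion₂.mpr ⟨y, by simpa using hy, h⟩)
  · by_contra hyW
    rw [GrpdLib.mem_basicOpen_iff_not_mem] at hy
    exact hy ((PrimeSpectrum.mem_vanishingIdeal C f).mp hfI _ ⟨y, hyW, rfl⟩)

/-- The groupoid of a finite etale equivalence relation with orbits in affine opens has a scheme quotient. -/
theorem isRepSh_of_relation [Etale t.left] [Etale s.left] [IsFinite t.left] [IsFinite s.left]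
    (sq : IsPullback ((yon S).map t) ((yon S).map s) a a) [Sheaf.IsLocallySurjective a]
    (hb : ∀ u : U.left, ∃ V : U.left.Opens, IsAffineOpen V ∧ ∀ r : R.left, s.left r = u → t.left r ∈ V) :
    IsRepSh X := by
  let Z : Over S := Over.mk (pullback.fst s.left t.left ≫ R.hom)
  let p₁ : Z ⟶ R := Over.homMk (pullback.fst s.left t.left) rfl
  let p₂ : Z ⟶ R := Over.homMk (pullback.snd s.left t.left) (by
    show pullback.snd _ _ ≫ R.hom = pullback.fst _ _ ≫ R.hom
    conv_lhs => rw [← Over.w t]
    conv_rhs => rw [← Over.w s]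
    rw [← Category.assoc, ← Category.assoc, pullback.condition])
  have hp : p₁ ≫ s = p₂ ≫ t := Over.OverMorphism.ext pullback.condition
  have hex : ∀ {T : Over S} (b c : T ⟶ U), (yon S).map b ≫ a = (yon S).map c ≫ a →
      ∃ l : T ⟶ R, l ≫ t = b ∧ l ≫ s = c := fun b c h => by
    obtain ⟨l, hl⟩ := (yon S).map_surjective (sq.lift _ _ h)
    exact ⟨l, (yon S).map_injective (by rw [Functor.map_comp, hl, sq.lift_fst]),
      (yon S).map_injective (by rw [Functor.map_comp, hl, sq.lift_snd])⟩
  obtain ⟨c, hct, hcs⟩ := hex (p₁ ≫ t) (p₂ ≫ s) (by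
    rw [Functor.map_comp_assoc, sq.w, ← Functor.map_comp_assoc, hp, Functor.map_comp_assoc, sq.w,
      ← Functor.map_comp_assoc])
  obtain ⟨e, het, hes⟩ := hex (𝟙 U) (𝟙 U) rfl
  obtain ⟨i, hit, his⟩ := hex s t sq.w.symm
  have hct' : c.left ≫ t.left = pullback.fst s.left t.left ≫ t.left := congrArg CommaMorphism.left hct
  have hcs' : c.left ≫ s.left = pullback.snd s.left t.left ≫ s.left := congrArg CommaMorphism.left hcs
  have het' : e.left ≫ t.left = 𝟙 _ := congrArg CommaMorphism.left het
  have hes' : e.left ≫ s.left = 𝟙 _ := congrArg CommaMorphism.left hes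
  have hit' : i.left ≫ t.left = s.left := congrArg CommaMorphism.left hit
  have his' : i.left ≫ s.left = t.left := congrArg CommaMorphism.left his
  let G : Grpd.GroupoidScheme S :=
    { U := U.left, R := R.left, pU := U.hom, pR := R.hom, s := s.left, t := t.left
      e := e.left, i := i.left, c := c.left
      s_over := Over.w s, t_over := Over.w t
      comp_s := fun α β h => by rw [Category.assoc, hcs', pullback.lift_snd_assoc]
      comp_t := fun α β h => by rw [Category.assoc, hct', pullback.lift_fst_assoc]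
      assoc := fun α β γ h₁ h₂ => by
        apply left_ext sq
        · simp only [Category.assoc, hct', pullback.lift_fst_assoc]
        · simp only [Category.assoc, hcs', pullback.lift_snd_assoc]
      e_s := hes', e_t := het'
      comp_e := fun α => by
        apply left_ext sq
        · simp only [Category.assoc, hct', pullback.lift_fst_assoc]
        · simp only [Category.assoc, hcs', pullback.lift_snd_assoc, hes', Category.comp_id]
      e_comp := fun α => by
        apply left_ext sq
        · simp only [Category.assoc, hct', pullback.lift_fst_assoc, het', Category.comp_id]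
        · simp only [Category.assoc, hcs', pullback.lift_snd_assoc]
      i_s := his', i_t := hit'
      comp_i := fun α => by
        apply left_ext sq
        · simp only [Category.assoc, hct', pullback.lift_fst_assoc, het', Category.comp_id]
        · simp only [Category.assoc, hcs', pullback.lift_snd_assoc, his', hes', Category.comp_id]
      i_comp := fun α => by
        apply left_ext sq
        · simp only [Category.assoc, hct', pullback.lift_fst_assoc, hit', het', Category.comp_id]
        · simp only [Category.assoc, hcs', pullback.lift_snd_assoc, hes', Category.comp_id] }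
  have hmj : Mono G.j := ⟨fun {T} g h e => left_ext sq
    (by have e1 := congrArg (· ≫ pullback.fst G.pU G.pU) e
        simp only [Grpd.GroupoidScheme.j, G, Category.assoc, pullback.lift_fst] at e1; exact e1)
    (by have e1 := congrArg (· ≫ pullback.snd G.pU G.pU) e
        simp only [Grpd.GroupoidScheme.j, G, Category.assoc, pullback.lift_snd] at e1; exact e1)⟩
  haveI : IsFinite G.s := ‹IsFinite s.left›
  haveI : Flat G.s := show Flat s.left from inferInstance
  haveI : LocallyOfFinitePresentation G.s := show LocallyOfFinitePresentation s.left from inferInstance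
  obtain ⟨Y, p, hq, -, -, -, hmono, -⟩ := GrpdLib.exists_quotient G fun x => by
    obtain ⟨V, hV, h⟩ := hb x
    refine ⟨V, hV, ?_⟩
    rintro y ⟨r, hr, rfl⟩
    exact h r hr
  obtain ⟨hpb, _, _, _⟩ := hmono hmj
  obtain ⟨π, hπ, -⟩ := hq.existsUnique_desc G G.pU ((Over.w t).trans (Over.w s).symm)
  let M : Over S := Over.mk π
  let m : U ⟶ M := Over.homMk p hπ
  haveI : Flat m.left := ‹Flat p›
  haveI : LocallyOfFinitePresentation m.left := ‹LocallyOfFinitePresentation p›
  haveI : Surjective m.left := ⟨hq.surj⟩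
  haveI hls : Sheaf.IsLocallySurjective ((yon S).map m) := isLocallySurjective_yon_map m
  have sqM : IsPullback ((yon S).map t) ((yon S).map s) ((yon S).map m) ((yon S).map m) :=
    IsPullback.map (yon S) (IsPullback.of_map (Over.forget S) (h := m) (i := m)
      (show t ≫ m = s ≫ m from Over.OverMorphism.ext hpb.w) hpb)
  obtain ⟨y, hy⟩ := exists_desc ((yon S).map m) a fun T b b' h => by
    obtain ⟨r, h1, h2⟩ : ∃ r, r ≫ (yon S).map t = b ∧ r ≫ (yon S).map s = b' :=
      ⟨_, sqM.lift_fst b b' h, sqM.lift_snd b b' h⟩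
    rw [← h1, ← h2, Category.assoc, Category.assoc, sq.w]
  obtain ⟨y', hy'⟩ := exists_desc a ((yon S).map m) fun T b b' h => by
    obtain ⟨r, h1, h2⟩ : ∃ r, r ≫ (yon S).map t = b ∧ r ≫ (yon S).map s = b' :=
      ⟨_, sq.lift_fst b b' h, sq.lift_snd b b' h⟩
    rw [← h1, ← h2, Category.assoc, Category.assoc, sqM.w]
  haveI : Epi ((yon S).map m) := (Sheaf.isLocallySurjective_iff_epi _).mp hls
  haveI : Epi a := (Sheaf.isLocallySurjective_iff_epi _).mp inferInstance
  exact ⟨M, ⟨{
    hom := y
    inv := y'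
    hom_inv_id := by rw [← cancel_epi ((yon S).map m), reassoc_of% hy, hy', Category.comp_id]
    inv_hom_id := by rw [← cancel_epi a, reassoc_of% hy', hy, Category.comp_id] }⟩⟩

/-- The image of an open with constant count is a scheme. -/
theorem isRepSh_of_count [IsAffine U.left] (hX : IsAlgSpace X) (ha : RepWith @Etale a)
    (sq : IsPullback ((yon S).map t) ((yon S).map s) a a) {O : Set U.left} (hO : IsOpen O) (n : ℕ)
    (h₁ : ∀ u ∈ O, AtLeast t.left n u) (h₂ : ∀ u ∈ O, ¬ AtLeast t.left (n + 1) u) :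
    IsRepSh (openSub X (Points.ofPt a '' O)) := by
  haveI : Etale t.left := etale_left (repWith_of_isPullback sq.flip ha)
  haveI : Etale s.left := etale_left (repWith_of_isPullback sq ha)
  haveI := isSeparated_t sq
  set Ω := Points.ofPt a '' O
  have hΩ : IsOpen Ω := isOpenMap_ofPt ha _ hO
  let W : U.left.Opens := ⟨Points.ofPt a ⁻¹' Ω, hΩ.preimage (Points.continuous_ofPt a)⟩
  have hrel : ∀ r : R.left, Points.ofPt a (t.left r) = Points.ofPt a (s.left r) := fun r =>
    (ofPt_eq_ofPt_iff sq _ _).2 ⟨r, rfl, rfl⟩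
  have hW : ∀ u ∈ W, AtLeast t.left n u ∧ ¬ AtLeast t.left (n + 1) u := fun u ⟨v, hv, e⟩ => by
    obtain ⟨r, hrt, hrs⟩ := (ofPt_eq_ofPt_iff sq v u).1 e
    refine ⟨hrs ▸ atLeast_invariant sq r (hrt.symm ▸ h₁ v hv), fun h => h₂ v hv ?_⟩
    obtain ⟨r', hrt', hrs'⟩ := (ofPt_eq_ofPt_iff sq u v).1 e.symm
    exact hrs' ▸ atLeast_invariant sq r' (hrt'.symm ▸ h)
  let W' : Over S := Over.mk (W.ι ≫ U.hom)
  let j : W' ⟶ U := Over.homMk W.ι rfl
  haveI : IsOpenImmersion j.left := inferInstanceAs (IsOpenImmersion W.ι)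
  haveI : Mono j := (Over.forget S).mono_of_mono_map (inferInstanceAs (Mono W.ι))
  let R' : Over S := Over.mk ((t.left ⁻¹ᵁ W).ι ≫ R.hom)
  let k : R' ⟶ R := Over.homMk (t.left ⁻¹ᵁ W).ι rfl
  haveI : Mono k := (Over.forget S).mono_of_mono_map (inferInstanceAs (Mono (t.left ⁻¹ᵁ W).ι))
  let t' : R' ⟶ W' := Over.homMk (t.left ∣_ W) (by
    show t.left ∣_ W ≫ W.ι ≫ U.hom = _
    rw [morphismRestrict_ι_assoc, Over.w]; rfl)
  have hr : Set.range (k ≫ s).left ⊆ Set.range W.ι := by
    rintro _ ⟨r, rfl⟩
    rw [Scheme.Opens.range_ι]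
    show Points.ofPt a (s.left r.1) ∈ Ω
    rw [← hrel]; exact r.2
  let s' : R' ⟶ W' := Over.homMk (IsOpenImmersion.lift W.ι (k ≫ s).left hr) (by
    show IsOpenImmersion.lift W.ι (k ≫ s).left hr ≫ W.ι ≫ U.hom = _
    rw [IsOpenImmersion.lift_fac_assoc, Over.w (k ≫ s)])
  have ht' : t' ≫ j = k ≫ t := Over.OverMorphism.ext (morphismRestrict_ι _ _)
  have hs' : s' ≫ j = k ≫ s := Over.OverMorphism.ext (IsOpenImmersion.lift_fac _ _ _)
  obtain ⟨l, hl⟩ := (exists_lift_openSub (W := Ω) ((yon S).map j ≫ a)).2 fun w => by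
    rw [ofPt_yon_comp]; exact w.2
  have w' : (yon S).map t' ≫ l = (yon S).map s' ≫ l := by
    rw [← cancel_mono (openSubι X Ω), Category.assoc, Category.assoc, hl, ← Functor.map_comp_assoc,
      ← Functor.map_comp_assoc, ht', hs', Functor.map_comp_assoc, Functor.map_comp_assoc, sq.w]
  haveI : Mono ((yon S).map k) := (yon S).map_mono k
  haveI : Mono ((yon S).map j) := (yon S).map_mono j
  have sq' : IsPullback ((yon S).map t') ((yon S).map s') l l := by
    refine isPullback_of_forall_existsUnique w' fun T b c e => ?_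
    obtain ⟨b, rfl⟩ := (yon S).map_surjective b
    obtain ⟨c, rfl⟩ := (yon S).map_surjective c
    have e' : (yon S).map (b ≫ j) ≫ a = (yon S).map (c ≫ j) ≫ a := by
      rw [Functor.map_comp_assoc, Functor.map_comp_assoc, ← hl, reassoc_of% e]
    obtain ⟨r, hr'⟩ := (yon S).map_surjective (sq.lift _ _ e')
    have hrt : r ≫ t = b ≫ j := (yon S).map_injective (by rw [Functor.map_comp, hr', sq.lift_fst])
    have hrs : r ≫ s = c ≫ j := (yon S).map_injective (by rw [Functor.map_comp, hr', sq.lift_snd])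
    have hrr : Set.range r.left ⊆ Set.range (t.left ⁻¹ᵁ W).ι := by
      rintro _ ⟨z, rfl⟩
      rw [Scheme.Opens.range_ι]
      show t.left (r.left z) ∈ W
      rw [← Scheme.Hom.comp_apply, ← Over.comp_left, hrt, Over.comp_left, Scheme.Hom.comp_apply]
      exact (b.left z).2
    let r' : T ⟶ R' := Over.homMk (IsOpenImmersion.lift _ r.left hrr) (by
      show IsOpenImmersion.lift _ r.left hrr ≫ (t.left ⁻¹ᵁ W).ι ≫ R.hom = _
      rw [IsOpenImmersion.lift_fac_assoc, Over.w r])
    have hk : r' ≫ k = r := Over.OverMorphism.ext (IsOpenImmersion.lift_fac _ _ _)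
    refine ⟨(yon S).map r', ⟨?_, ?_⟩, fun g hg => ?_⟩
    · rw [← Functor.map_comp]; congr 1
      rw [← cancel_mono j, Category.assoc, ht', reassoc_of% hk, hrt]
    · rw [← Functor.map_comp]; congr 1
      rw [← cancel_mono j, Category.assoc, hs', reassoc_of% hk, hrs]
    · rw [← cancel_mono ((yon S).map k), ← Functor.map_comp, hk, hr']
      apply sq.hom_ext
      · rw [sq.lift_fst, Category.assoc, ← Functor.map_comp, ← ht', Functor.map_comp, reassoc_of% hg.1,
          Functor.map_comp]
      · rw [sq.lift_snd, Category.assoc, ← Functor.map_comp, ← hs', Functor.map_comp, reassoc_of% hg.2,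
          Functor.map_comp]
  have hle : RepWith @Etale l := repWith_of_isPullback
    (fst := 𝟙 _) (g := openSubι X Ω) (f := (yon S).map j ≫ a)
    (IsPullback.of_horiz_isIso_mono ⟨by rw [Category.id_comp, hl]⟩)
    (repWith_comp ((repWith_yon_map_iff (P := (@Etale : MorphismProperty Scheme.{u})) j).2
      (inferInstanceAs (Etale W.ι))) ha)
  haveI : Sheaf.IsLocallySurjective l := by
    refine isLocallySurjective_of_repWith (repWith_mono (fun _ _ g (_ : Etale g) => (inferInstance : Flat g)) hle)
      (repWith_mono (fun _ _ g (_ : Etale g) => (inferInstance : LocallyOfFinitePresentation g)) hle)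
      ((repWith_surjective_iff hle.rep).2 fun x => ?_)
    have hx : Points.map (openSubι X Ω) x ∈ Ω := (range_openSubι X (W := Ω)).subset ⟨x, rfl⟩
    obtain ⟨u, hu, e⟩ := hx
    have huW : u ∈ W := ⟨u, hu, rfl⟩
    refine ⟨Points.schemeHomeo W' (⟨u, huW⟩ : W'.left), injective_map_of_mono (openSubι X Ω) ?_⟩
    rw [← Points.map_comp, hl, ← e]
    have := ofPt_yon_comp j a ⟨u, huW⟩
    rw [ofPt_comp_ofScheme] at this
    exact this
  haveI : Etale t'.left := IsZariskiLocalAtTarget.restrict ‹Etale t.left› W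
  haveI : IsFinite t'.left := isFinite_restrict t.left W n (fun u hu => (hW u hu).1) fun u hu => (hW u hu).2
  haveI : Etale s'.left := etale_left (repWith_of_isPullback sq' hle)
  haveI : IsFinite s'.left := by
    obtain ⟨σ, hσ⟩ := (yon S).map_surjective (sq'.lift _ _ sq'.w.symm)
    have h1 : σ ≫ t' = s' := (yon S).map_injective (by rw [Functor.map_comp, hσ, sq'.lift_fst])
    have h2 : σ ≫ s' = t' := (yon S).map_injective (by rw [Functor.map_comp, hσ, sq'.lift_snd])
    have h3 : σ ≫ σ = 𝟙 R' := (yon S).map_injective (sq'.hom_ext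
      (by rw [← Functor.map_comp, ← Functor.map_comp, Category.assoc, h1, h2, Category.id_comp])
      (by rw [← Functor.map_comp, ← Functor.map_comp, Category.assoc, h2, h1, Category.id_comp]))
    haveI : IsIso σ.left := ⟨σ.left, congrArg CommaMorphism.left h3, congrArg CommaMorphism.left h3⟩
    rw [← h1, Over.comp_left]
    infer_instance
  refine isRepSh_of_relation sq' fun u => ?_
  have hfin : (t'.left '' (s'.left ⁻¹' {u})).Finite := by
    haveI := locallyQuasiFinite_of_etale s'.left
    exact (s'.left.finite_preimage_singleton u).image _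
  obtain ⟨f, hfF, hfW⟩ := exists_basicOpen_of_finite W (hfin.image j.left) (by
    rintro _ ⟨w, -, rfl⟩; exact w.2)
  refine ⟨W.ι ⁻¹ᵁ U.left.basicOpen f, ((isAffineOpen_top U.left).basicOpen f).preimage_of_isOpenImmersion W.ι
    (by simpa using hfW), fun r hr => hfF ⟨_, ⟨r, hr, rfl⟩, rfl⟩⟩

end SpectralQuot
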