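import Groth.Agent.SpectralQuot.SchematicLocus
import Groth.Agent.AlgSpLib.DecentPack

/-! Dense open subschemes of algebraic spaces. -/

set_option autoImplicit false

universe u

open CategoryTheory CategoryTheory.Limits AlgebraicGeometry Opposite AlgSp AlgSpLib Topology TopologicalSpace

noncomputable section

namespace SpectralQuot

variable {S : Scheme.{u}}

theorem finite_components_of_dense {A B : Type*} [TopologicalSpace A] [TopologicalSpace B] {e : A → B}
    (he : IsOpenEmbedding e) (hd : DenseRange e) :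
    (irreducibleComponents A).Finite ↔ (irreducibleComponents B).Finite := by
  constructor <;> intro h
  · refine (h.image fun C => closure (e '' C)).subset fun Z hZ => ?_
    have hcov : Z ⊆ ⋃ C ∈ irreducibleComponents A, closure (e '' C) := by
      rw [← h.closure_biUnion]
      refine fun z _ => (closure_mono ?_) (hd z)
      rintro _ ⟨a, rfl⟩
      exact Set.mem_iUnion₂.2 ⟨irreducibleComponent a, irreducibleComponent_mem_irreducibleComponents a,
        a, mem_irreducibleComponent, rfl⟩
    classical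
    obtain ⟨z, hz, hZz⟩ := isIrreducible_iff_sUnion_isClosed.mp hZ.1 (h.toFinset.image fun C => closure (e '' C))
      (fun z hz => by obtain ⟨C, -, rfl⟩ := Finset.mem_image.mp hz; exact isClosed_closure)
      (fun x hx => by
        obtain ⟨C, hC, hxC⟩ := Set.mem_iUnion₂.1 (hcov hx)
        exact ⟨_, Finset.mem_coe.2 (Finset.mem_image_of_mem _ (h.mem_toFinset.2 hC)), hxC⟩)
    obtain ⟨C, hC, rfl⟩ := Finset.mem_image.mp hz
    exact ⟨C, h.mem_toFinset.1 hC,
      (hZ.2 ((h.mem_toFinset.1 hC).1.image e he.continuous.continuousOn).closure hZz).antisymm hZz⟩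
  · refine (h.image fun Z => e ⁻¹' Z).subset fun C hC => ?_
    obtain ⟨Z, hZ, hCZ⟩ :=
      exists_mem_irreducibleComponents_subset_of_isIrreducible _ (hC.1.image e he.continuous.continuousOn)
    obtain ⟨c, hc⟩ := hC.1.nonempty
    have h1 := preimage_mem_irreducibleComponents hZ he ⟨e c, hCZ ⟨c, hc, rfl⟩, c, rfl⟩
    exact ⟨Z, hZ, ((hC.2 h1.1 (Set.image_subset_iff.mp hCZ)).antisymm (Set.image_subset_iff.mp hCZ))⟩

/-- A generalization closed maximal point gives a component. -/
theorem exists_generic_of_maximal {A : Type*} [TopologicalSpace A] [T0Space A] [QuasiSober A] (x : A)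
    (h : ∀ y, y ⤳ x → y = x) : ∃ T ∈ irreducibleComponents A, IsGenericPoint x T := by
  have hg := isIrreducible_irreducibleComponent.isGenericPoint_genericPoint (isClosed_irreducibleComponent (x := x))
  refine ⟨_, irreducibleComponent_mem_irreducibleComponents x, ?_⟩
  rwa [h _ (hg.specializes mem_irreducibleComponent)] at hg

theorem exists_maximal_mem {A : Type*} [TopologicalSpace A] [T0Space A] [QuasiSober A] {O : Set A} (hO : IsOpen O)
    {z : A} (hz : z ∈ O) : ∃ η ∈ O, ∀ y, y ⤳ η → y = η := by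
  have hg := isIrreducible_irreducibleComponent.isGenericPoint_genericPoint (isClosed_irreducibleComponent (x := z))
  refine ⟨_, (hg.specializes mem_irreducibleComponent).mem_open hO hz, fun y hy => ?_⟩
  have h1 : irreducibleComponent z ⊆ closure {y} := by rw [← hg.def]; exact hy.closure_subset
  have h2 := (irreducibleComponent_mem_irreducibleComponents z).2 isIrreducible_singleton.closure h1
  exact (hy.antisymm (hg.specializes (h2 (subset_closure rfl)))).eq

/-- A finite fibre with many points has many geometric points. -/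
theorem atLeast_of_points {R U : Scheme.{u}} (f : R ⟶ U) [Etale f] {u : U} {n : ℕ} (r : Fin n → R)
    (hr : Function.Injective r) (hru : ∀ i, f (r i) = u) : AtLeast f n u := by
  obtain ⟨Ω, i₁, i₂, w, hw⟩ := exists_geomPoint u
  choose g hg hgr using fun i => Scheme.exists_fac_of_etale_of_isSepClosed f w (r i) (by
    rw [hru, ← hw, Subsingleton.elim (default : Spec (CommRingCat.of Ω)) (IsLocalRing.closedPoint Ω)])
  exact ⟨Ω, i₁, i₂, w, g, hw, fun i j e => hr (by rw [← hgr i, ← hgr j, e]), hg⟩

theorem finite_of_not_atLeast {R U : Scheme.{u}} (f : R ⟶ U) [Etale f] {u : U} {n : ℕ}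
    (h : ¬ AtLeast f n u) : (f ⁻¹' {u}).Finite := by
  by_contra hinf
  let φ := Set.Infinite.natEmbedding _ hinf
  exact h (atLeast_of_points f (fun i : Fin n => (φ i).1)
    (fun i j e => Fin.ext (φ.injective (Subtype.ext e))) fun i => (φ i).2)

theorem isOpenEmbedding_ofPt {X : Sp S} {M : Over S} {j : (yon S).obj M ⟶ X}
    (hj : RepWith @IsOpenImmersion j) : IsOpenEmbedding (Points.ofPt j) := by
  haveI := mono_of_repWith (fun g hg => @IsOpenImmersion.mono _ _ g hg) hj
  refine .of_continuous_injective_isOpenMap (Points.continuous_ofPt j) (fun x y e => ?_)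
    (isOpenMap_ofPt (repWith_mono (fun _ _ g (_ : IsOpenImmersion g) => (inferInstance : Etale g)) hj))
  have sq : IsPullback ((yon S).map (𝟙 M)) ((yon S).map (𝟙 M)) j j := by
    rw [CategoryTheory.Functor.map_id]; exact IsKernelPair.id_of_mono j
  obtain ⟨z, h1, h2⟩ := (ofPt_eq_ofPt_iff sq x y).1 e
  exact h1.symm.trans h2

/-- The converse criterion for decency. -/
theorem isDecent_of_dense_scheme {X : Sp S} (hX : IsAlgSpace X) {M : Over S} (j : (yon S).obj M ⟶ X)
    (hj : RepWith @IsOpenImmersion j) (hd : Dense (Set.range (Points.ofPt j)))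
    (hfin : (irreducibleComponents M.left).Finite)
    (hq : ∀ x' : M.left, (∃ T ∈ irreducibleComponents M.left, IsGenericPoint x' T) →
      RepWith @QuasiCompact (FieldPt.ofPt j x').toHom) : IsDecent X := by
  classical
  have key : ∀ (U : Over S) (φ : (yon S).obj U ⟶ X), IsAffine U.left → RepWith @Etale φ →
      ∀ (R : Over S) (s t : R ⟶ U), IsPullback ((yon S).map t) ((yon S).map s) φ φ →
        ∀ u, (t.left ⁻¹' {u}).Finite := by
    intro U φ hU hφ R s t sq u
    haveI := hU
    haveI : Etale t.left := etale_left (repWith_of_isPullback sq.flip hφ)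
    haveI := isSeparated_t sq
    obtain ⟨W, h, g, sqW⟩ := exists_isPullback_yon φ j hφ.rep
    haveI : Etale g.left := etale_left (repWith_of_isPullback sqW hφ)
    haveI : IsOpenImmersion h.left :=
      (repWith_yon_map_iff (P := (@IsOpenImmersion : MorphismProperty Scheme.{u})) h).1
        (repWith_of_isPullback sqW.flip hj)
    have hrange : Points.ofPt φ ⁻¹' Set.range (Points.ofPt j) = Set.range h.left := by
      ext v
      constructor
      · rintro ⟨x', e⟩
        obtain ⟨w, hw, -⟩ := (ofPt_eq_ofPt_iff sqW v x').1 e.symm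
        exact ⟨w, hw⟩
      · rintro ⟨w, rfl⟩
        exact ⟨g.left w, ((ofPt_eq_ofPt_iff sqW _ _).2 ⟨w, rfl, rfl⟩).symm⟩
    let G : Set M.left := {x' | ∃ T ∈ irreducibleComponents M.left, IsGenericPoint x' T}
    have hG : G.Finite := by
      refine (genericPoints.finite hfin).subset fun x' ⟨T, hT, hxT⟩ => ?_
      show closure {x'} ∈ irreducibleComponents M.left
      rw [hxT.def]; exact hT
    let F : Set U.left := {v | v ∈ Set.range h.left ∧ ∀ y, y ⤳ v → y = v}
    have hF : ∀ v ∈ F, ∃ x' ∈ G, Points.ofPt φ v = Points.ofPt j x' := by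
      rintro _ ⟨⟨w, rfl⟩, hmax⟩
      refine ⟨g.left w, exists_generic_of_maximal _ fun y hy => ?_, (ofPt_eq_ofPt_iff sqW _ _).2 ⟨w, rfl, rfl⟩⟩
      obtain ⟨w', hw', e⟩ := Flat.generalizingMap g.left hy
      rw [← e, h.left.isOpenEmbedding.injective (hmax _ (hw'.map h.left.continuous))]
    have hFfin : F.Finite := by
      refine (hG.biUnion fun x' hx' => finite_fibre_of_qc_point (hq x' hx') hφ).subset fun v hv => ?_
      obtain ⟨x', hx', e⟩ := hF v hv
      exact Set.mem_iUnion₂.2 ⟨x', hx', e⟩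
    have hbd : ∀ v ∈ F, ∃ n, ¬ AtLeast t.left n v := fun v hv => by
      obtain ⟨x', hx', e⟩ := hF v hv
      obtain ⟨p, hp, hm, hpq⟩ := exists_decentPt_of_qc hX (FieldPt.ofPt j x') (hq x' hx')
      refine exists_not_atLeast t.left v (((exists_decentPt_iff_finite hX (Points.ofPt φ v)).mpr
        ⟨p, hp.trans e.symm, hm, hpq⟩ U φ hU hφ R s t sq).2.subset fun r hr => ?_)
      simp only [Set.mem_preimage, Set.mem_singleton_iff] at hr ⊢
      rw [ofPt_yon_comp, hr]
    choose! n hn using hbd
    by_contra hinf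
    let N := hFfin.toFinset.sup n
    have hN : AtLeast t.left N u := by
      by_contra h'
      exact hinf (finite_of_not_atLeast t.left h')
    obtain ⟨z, hzN, hzr⟩ := (hd.preimage (isOpenMap_ofPt hφ)).inter_open_nonempty _
      (isOpen_atLeast t.left N) ⟨u, hN⟩
    obtain ⟨η, hη, hmax⟩ := exists_maximal_mem
      ((isOpen_atLeast t.left N).inter h.left.isOpenEmbedding.isOpen_range) ⟨hzN, hrange ▸ hzr⟩
    have hηF : η ∈ F := ⟨hη.2, hmax⟩
    refine hn η hηF ?_
    obtain ⟨Ω, i₁, i₂, w, g', hw, hg, hgf⟩ := hη.1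
    have hle : n η ≤ N := Finset.le_sup (hFfin.mem_toFinset.2 hηF)
    exact ⟨Ω, i₁, i₂, w, fun i => g' (Fin.castLE hle i), hw, hg.comp (Fin.castLE_injective hle), fun i => hgf _⟩
  refine fun x => (exists_decentPt_iff_finite hX x).1 fun U φ hU hφ R s t sq => ?_
  have hf : (Points.ofPt φ ⁻¹' {x}).Finite := by
    rcases Set.eq_empty_or_nonempty (Points.ofPt φ ⁻¹' {x}) with h0 | ⟨u₀, hu₀⟩
    · rw [h0]; exact Set.finite_empty
    refine ((key U φ hU hφ R s t sq u₀).image s.left).subset fun v hv => ?_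
    obtain ⟨r, h1, h2⟩ := (ofPt_eq_ofPt_iff sq u₀ v).1 (hu₀.trans hv.symm)
    exact ⟨r, h1, h2⟩
  refine ⟨hf, (hf.biUnion fun v _ => key U φ hU hφ R s t sq v).subset fun r hr => ?_⟩
  rw [Set.mem_preimage, ofPt_yon_comp] at hr
  exact Set.mem_iUnion₂.2 ⟨t.left r, hr, rfl⟩

/-- A space with a finite etale cover by a scheme is decent. -/
theorem isDecent_of_finite_cover {X : Sp S} (hX : IsAlgSpace X) {U : Over S} {a : (yon S).obj U ⟶ X}
    (hf : RepWith @IsFinite a) (hs : RepWith @Surjective a) : IsDecent X := fun x => by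
  obtain ⟨u, rfl⟩ := surjective_ofPt hs x
  refine exists_decentPt_of_qc hX (FieldPt.ofPt a u) (repWith_qc_of_finite hX _ fun V b hV hb W fP fV sq => ?_)
  haveI := hV
  obtain ⟨V', g, h, sqV⟩ := exists_isPullback_yon a b hf.rep
  haveI : IsFinite h.left := (repWith_yon_map_iff (P := (@IsFinite : MorphismProperty Scheme.{u})) h).1
    (repWith_of_isPullback sqV hf)
  haveI : IsAffine V'.left := isAffine_of_isAffineHom h.left
  have hge : RepWith @Etale ((yon S).map g) := repWith_of_isPullback sqV.flip hb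
  let j : (FieldPt.ofPt a u).pt ⟶ U := Over.homMk (U.left.fromSpecResidueField u) rfl
  have e : (yon S).map j ≫ a = (FieldPt.ofPt a u).toHom := (FieldPt.toHom_ofPt a u).symm
  obtain ⟨l, hl⟩ := (yon S).map_surjective (sqV.lift ((yon S).map (fP ≫ j)) ((yon S).map fV) (by
    rw [Functor.map_comp_assoc, e, sq.w]))
  have hl1 : l ≫ g = fP ≫ j := (yon S).map_injective (by rw [Functor.map_comp, hl, sqV.lift_fst])
  have hl2 : l ≫ h = fV := (yon S).map_injective (by rw [Functor.map_comp, hl, sqV.lift_snd])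
  have sql : IsPullback ((yon S).map fP) ((yon S).map l) ((yon S).map j) ((yon S).map g) := by
    have hsq : IsPullback ((yon S).map fP) ((yon S).map l ≫ (yon S).map h) ((yon S).map j ≫ a) b := by
      rw [← Functor.map_comp, hl2, e]; exact sq
    exact IsPullback.of_bot hsq (by rw [← Functor.map_comp, ← Functor.map_comp, hl1]) sqV
  have sql' : IsPullback fP.left l.left j.left g.left :=
    (IsPullback.of_map (yon S) (by rw [hl1]) sql).map (Over.forget S)
  haveI : IsPreimmersion j.left := inferInstanceAs (IsPreimmersion (U.left.fromSpecResidueField u))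
  haveI : IsPreimmersion l.left :=
    MorphismProperty.of_isPullback (P := @IsPreimmersion) sql' ‹IsPreimmersion j.left›
  obtain ⟨p, hp, -, hpq⟩ := isDecent_yon U (Points.ofPt (𝟙 ((yon S).obj U)) u)
  have hfin := finite_fibre_of_qc_point (X := (yon S).obj U) hpq hge
  refine Set.finite_univ_iff.1 ((hfin.preimage l.left.isEmbedding.injective.injOn).subset fun w _ => ?_)
  rw [Set.mem_preimage, Set.mem_preimage, Set.mem_singleton_iff, hp, ← Category.comp_id ((yon S).map g),
    ofPt_yon_comp, ← Scheme.Hom.comp_apply, ← Over.comp_left, hl1, Over.comp_left, Scheme.Hom.comp_apply]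
  exact congrArg _ (U.left.fromSpecResidueField_apply u _)

/-- The relation of an affine chart into a quasi-separated space over an affine open of the base is quasi-compact. -/
theorem compactSpace_relation {X : Sp S} (hq : IsQuasiSeparatedSp X) {V R : Over S} [IsAffine V.left]
    {S₀ : S.Opens} (hS₀ : IsAffineOpen S₀) (hV : Set.range V.hom ⊆ S₀) {b : (yon S).obj V ⟶ X}
    {t s : R ⟶ V} (sq : IsPullback ((yon S).map t) ((yon S).map s) b b) : CompactSpace R.left := by
  have e : prod.lift ((yon S).map t) ((yon S).map s) =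
      (yon S).map (prod.lift t s) ≫ prodComparison (yon S) V V := by
    apply prod.hom_ext
    · rw [prod.lift_fst, Category.assoc, prodComparison_fst, ← Functor.map_comp, prod.lift_fst]
    · rw [prod.lift_snd, Category.assoc, prodComparison_snd, ← Functor.map_comp, prod.lift_snd]
  have h := repWith_of_isPullback (isPullback_diag_prodMap sq) hq
  rw [e, MorphismProperty.cancel_right_of_respectsIso (P := RepWith @QuasiCompact)] at h
  haveI : QuasiCompact (prod.lift t s).left :=
    (repWith_yon_map_iff (P := (@QuasiCompact : MorphismProperty Scheme.{u})) _).1 h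
  haveI : IsAffine S₀.toScheme := hS₀
  let h₀ : V.left ⟶ S₀.toScheme := IsOpenImmersion.lift S₀.ι V.hom (by rwa [Scheme.Opens.range_ι])
  haveI : CompactSpace ↥(pullback V.hom V.hom) := by
    have hh : h₀ ≫ S₀.ι = V.hom := IsOpenImmersion.lift_fac _ _ _
    have sq' : IsPullback (pullback.fst h₀ h₀) (pullback.snd h₀ h₀) V.hom V.hom := by
      rw [← hh]; exact IsPullback.of_isLimit (pullbackIsPullbackOfCompMono h₀ h₀ S₀.ι)
    haveI : CompactSpace ↥(pullback h₀ h₀) := inferInstance
    exact sq'.isoPullback.hom.homeomorph.compactSpace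
  haveI : CompactSpace (V ⨯ V).left := (Over.prodLeftIsoPullback V V).inv.homeomorph.compactSpace
  exact QuasiCompact.compactSpace_of_compactSpace (prod.lift t s).left

/-- The open subspace on the schematic locus. -/
theorem exists_schemeLocus (X : AlgSp.Space S) : ∃ (X' : AlgSp.Space S) (j : X' ⟶ X),
    RepWith @IsOpenImmersion j.hom ∧ X'.obj.obj.IsRepresentable ∧
      Set.range (Points.map j.hom) = schemeLocus X.obj := by
  obtain ⟨W, ⟨e⟩⟩ := isRepSh_schemeLocus X.property
  exact ⟨⟨openSub X.obj (schemeLocus X.obj), isAlgSpace_openSub X.property (isOpen_schemeLocus _)⟩,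
    ObjectProperty.homMk (openSubι X.obj _), repWith_openSubι _ (isOpen_schemeLocus _),
    (representableByOfIso e).isRepresentable, range_openSubι X.obj⟩

theorem dense_open_subscheme_of_decent (X : AlgSp.Space S) (hX : IsDecent X.obj) :
    ∃ (X' : AlgSp.Space S) (j : X' ⟶ X), RepWith @IsOpenImmersion j.hom ∧ X'.obj.obj.IsRepresentable ∧
      Dense (Set.range (Points.map j.hom)) := by
  obtain ⟨X', j, h1, h2, h3⟩ := exists_schemeLocus X
  exact ⟨X', j, h1, h2, h3 ▸ dense_schemeLocus X.property hX⟩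

theorem dense_open_subscheme_of_finite_cover (X : AlgSp.Space S) {U : Over S}
    (a : (yon S).obj U ⟶ X.obj) (hf : RepWith @IsFinite a) (he : RepWith @Etale a)
    (hs : RepWith @Surjective a) [QuasiSeparatedSpace ↥U.left] :
    ∃ (X' : AlgSp.Space S) (j : X' ⟶ X), RepWith @IsOpenImmersion j.hom ∧ X'.obj.obj.IsRepresentable ∧
      Dense (Set.range (Points.map j.hom)) ∧
      ∀ x : Points X.obj, HasAt (fun U u => ringKrullDim ↥(U.presheaf.stalk u) = 0) X.obj x →
        x ∈ Set.range (Points.map j.hom) := by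
  obtain ⟨X', j, h1, h2, h3⟩ := exists_schemeLocus X
  refine ⟨X', j, h1, h2, h3 ▸ dense_schemeLocus X.property (isDecent_of_finite_cover X.property hf hs), ?_⟩
  rintro _ ⟨U₁, a₁, u₁, ha₁, rfl, hdim⟩
  rw [h3]
  obtain ⟨V, i, v, hV, hiv, hi, hb⟩ := exists_affine_subchart ha₁ u₁
  haveI := hV; haveI := hi
  obtain ⟨R, t, s, sq⟩ := exists_isPullback_yon _ _ hb.rep
  obtain ⟨V', g, h, sqV⟩ := exists_isPullback_yon a ((yon S).map i ≫ a₁) hf.rep
  haveI : IsFinite h.left := (repWith_yon_map_iff (P := (@IsFinite : MorphismProperty Scheme.{u})) h).1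
    (repWith_of_isPullback sqV hf)
  haveI : IsAffine V'.left := isAffine_of_isAffineHom h.left
  haveI : CompactSpace R.left := by
    haveI : QuasiCompact g.left := quasiCompact_of_compactSpace _
    haveI : CompactSpace ↥(pullback g.left g.left) := QuasiCompact.compactSpace_of_compactSpace (pullback.fst _ _)
    let P : Over S := Over.mk (pullback.fst g.left g.left ≫ V'.hom)
    let p₁ : P ⟶ V' := Over.homMk (pullback.fst g.left g.left) rfl
    let p₂ : P ⟶ V' := Over.homMk (pullback.snd g.left g.left) (by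
      show pullback.snd _ _ ≫ V'.hom = pullback.fst _ _ ≫ V'.hom
      rw [← Over.w g, ← Category.assoc, ← Category.assoc, pullback.condition])
    have hp : p₁ ≫ g = p₂ ≫ g := Over.OverMorphism.ext pullback.condition
    obtain ⟨l, hl⟩ := (yon S).map_surjective (sq.lift ((yon S).map (p₁ ≫ h)) ((yon S).map (p₂ ≫ h)) (by
      rw [Functor.map_comp_assoc, Functor.map_comp_assoc, ← sqV.w, ← Functor.map_comp_assoc, hp,
        Functor.map_comp_assoc]))
    have hl1 : l.left ≫ t.left = pullback.fst _ _ ≫ h.left := congrArg CommaMorphism.left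
      ((yon S).map_injective (by rw [Functor.map_comp, hl, sq.lift_fst]) : l ≫ t = p₁ ≫ h)
    refine ⟨?_⟩
    have : Set.univ = Set.range l.left := by
      refine (Set.eq_univ_of_forall fun r => ?_).symm
      obtain ⟨Ω, i₁, i₂, w, rfl⟩ := exists_geomPoint r
      let T : Over S := Over.mk (w ≫ R.hom)
      let w' : T ⟶ R := Over.homMk w rfl
      haveI : Surjective h.left := (repWith_yon_map_iff (P := (@Surjective : MorphismProperty Scheme.{u})) h).1
        (repWith_of_isPullback sqV hs)
      obtain ⟨y, hy⟩ := h.left.surjective ((w ≫ t.left) default)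
      haveI : Etale h.left := etale_left (repWith_of_isPullback sqV he)
      obtain ⟨ρ, hρ, -⟩ := Scheme.exists_fac_of_etale_of_isSepClosed h.left (w ≫ t.left) y hy
      let ρ' : T ⟶ V' := Over.homMk ρ (by
        show ρ ≫ V'.hom = w ≫ R.hom
        rw [← Over.w h, ← Category.assoc, hρ, Category.assoc, Over.w t])
      have hρ' : ρ' ≫ h = w' ≫ t := Over.OverMorphism.ext hρ
      obtain ⟨σ, hσ⟩ := (yon S).map_surjective (sqV.lift ((yon S).map (ρ' ≫ g)) ((yon S).map (w' ≫ s)) (by
        rw [Functor.map_comp_assoc, sqV.w, ← Functor.map_comp_assoc, hρ', Functor.map_comp_assoc, sq.w,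
          ← Functor.map_comp_assoc]))
      have hσ1 : σ ≫ g = ρ' ≫ g := (yon S).map_injective (by rw [Functor.map_comp, hσ, sqV.lift_fst])
      have hσ2 : σ ≫ h = w' ≫ s := (yon S).map_injective (by rw [Functor.map_comp, hσ, sqV.lift_snd])
      refine ⟨(pullback.lift ρ σ.left (congrArg CommaMorphism.left hσ1).symm) (IsLocalRing.closedPoint Ω), ?_⟩
      rw [← Scheme.Hom.comp_apply]
      refine congrArg (fun (f : Spec (CommRingCat.of Ω) ⟶ R.left) => f (IsLocalRing.closedPoint Ω)) (left_ext sq ?_ ?_)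
      · rw [Category.assoc, hl1, pullback.lift_fst_assoc, hρ]
      · have hl2 : l.left ≫ s.left = pullback.snd _ _ ≫ h.left := congrArg CommaMorphism.left
          ((yon S).map_injective (by rw [Functor.map_comp, hl, sq.lift_snd]) : l ≫ s = p₂ ≫ h)
        rw [Category.assoc, hl2, pullback.lift_snd_assoc]
        exact congrArg CommaMorphism.left hσ2
    rw [this]
    haveI : CompactSpace P.left := ‹CompactSpace ↥(pullback g.left g.left)›
    exact isCompact_range l.left.continuous
  have := mem_schemeLocus_of_codim_zero X.property hb sq v (by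
    rw [ringKrullDim_stalk_eq_coheight] at hdim ⊢
    rw [← coheight_eq_of_isOpenImmersion (x := v) i.left, hiv]; exact hdim)
  rwa [ofPt_yon_comp, hiv] at this

theorem dense_open_subscheme_of_zar_qs (X : AlgSp.Space S)
    (hX : ∃ (ι : Type u) (Xi : ι → AlgSp.Space S) (j : ∀ i, Xi i ⟶ X),
        IsZarCover (fun i => (Xi i).obj) (fun i => (j i).hom) ∧ ∀ i, IsQuasiSeparatedSp (Xi i).obj) :
    ∃ (X' : AlgSp.Space S) (j : X' ⟶ X), RepWith @IsOpenImmersion j.hom ∧ X'.obj.obj.IsRepresentable ∧
      Dense (Set.range (Points.map j.hom)) ∧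
      ∀ x : Points X.obj, HasAt (fun U u => ringKrullDim ↥(U.presheaf.stalk u) = 0) X.obj x →
        x ∈ Set.range (Points.map j.hom) := by
  obtain ⟨ι, Xi, jX, ⟨hjX, hcov⟩, hqs⟩ := hX
  have hd : IsDecent X.obj := isDecent_of_open_cover X.property (fun i => (Xi i).property) hjX hcov
    fun i => isDecent_of_isQuasiSeparatedSp (Xi i).property (hqs i)
  obtain ⟨X', j, h1, h2, h3⟩ := exists_schemeLocus X
  refine ⟨X', j, h1, h2, h3 ▸ dense_schemeLocus X.property hd, ?_⟩
  rintro x ⟨U₁, a₁, u₁, ha₁, rfl, hdim⟩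
  rw [h3]
  obtain ⟨k, hk⟩ := hcov (Points.ofPt a₁ u₁)
  obtain ⟨W, w₁, w₂, sqW⟩ : ∃ (W : Over S) (w₁ : W ⟶ U₁) (w₂ : (yon S).obj W ⟶ (Xi k).obj),
      IsPullback w₂ ((yon S).map w₁) (jX k).hom a₁ :=
    ⟨_, _, _, (hjX k).rep.isPullback a₁⟩
  haveI : IsOpenImmersion w₁.left :=
    (repWith_yon_map_iff (P := (@IsOpenImmersion : MorphismProperty Scheme.{u})) w₁).1
      (repWith_of_isPullback sqW (hjX k))
  have hw₂ : RepWith @Etale w₂ := repWith_of_isPullback sqW.flip ha₁
  obtain ⟨y, hy⟩ := hk
  obtain ⟨U', a', ha', has'⟩ := (Xi k).property.atlas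
  obtain ⟨u', rfl⟩ := surjective_ofPt has' y
  rw [Points.map_ofPt] at hy
  obtain ⟨E, e₁, e₂, sqE⟩ := exists_isPullback_yon a₁ (a' ≫ (jX k).hom) ha₁.rep
  obtain ⟨e, he₁, he₂⟩ := (ofPt_eq_ofPt_iff sqE u₁ u').1 hy.symm
  obtain ⟨m, hm⟩ := (yon S).map_surjective (sqW.lift ((yon S).map e₂ ≫ a') ((yon S).map e₁) (by
    rw [Category.assoc, sqE.w]))
  have hm' : m ≫ w₁ = e₁ := (yon S).map_injective (by rw [Functor.map_comp, hm, sqW.lift_snd])
  obtain ⟨S₀, hS₀, huS₀, -⟩ := exists_isAffineOpen_mem_and_subset (U := ⊤) (x := U₁.hom u₁) trivial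
  have hu₁ : u₁ ∈ w₁.left.opensRange ⊓ U₁.hom ⁻¹ᵁ S₀ :=
    ⟨⟨m.left e, by rw [← Scheme.Hom.comp_apply, ← Over.comp_left, hm', he₁]⟩, huS₀⟩
  obtain ⟨A, hA, huA, hAsub⟩ := exists_isAffineOpen_mem_and_subset (U := w₁.left.opensRange ⊓ U₁.hom ⁻¹ᵁ S₀) hu₁
  let V : Over S := Over.mk (A.ι ≫ U₁.hom)
  haveI : IsAffine V.left := hA
  let i : V ⟶ U₁ := Over.homMk A.ι rfl
  haveI : IsOpenImmersion i.left := inferInstanceAs (IsOpenImmersion A.ι)
  let i' : V ⟶ W := Over.homMk (IsOpenImmersion.lift w₁.left A.ι (by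
    rintro _ ⟨z, rfl⟩; exact (hAsub z.2).1)) (by
    show IsOpenImmersion.lift w₁.left A.ι _ ≫ W.hom = A.ι ≫ U₁.hom
    rw [← Over.w w₁, IsOpenImmersion.lift_fac_assoc])
  have hi' : i' ≫ w₁ = i := Over.OverMorphism.ext (IsOpenImmersion.lift_fac _ _ _)
  let b := (yon S).map i ≫ a₁
  have hb : RepWith @Etale b :=
    repWith_comp ((repWith_yon_map_iff (P := (@Etale : MorphismProperty Scheme.{u})) i).2
      (inferInstanceAs (Etale A.ι))) ha₁
  have hbb : ((yon S).map i' ≫ w₂) ≫ (jX k).hom = b := by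
    rw [Category.assoc, sqW.w, ← Functor.map_comp_assoc, hi']
  obtain ⟨R, t, s, sq⟩ := exists_isPullback_yon b b hb.rep
  haveI : Mono (jX k).hom := mono_of_repWith (fun g hg => @IsOpenImmersion.mono _ _ g hg) (hjX k)
  have sq' : IsPullback ((yon S).map t) ((yon S).map s) ((yon S).map i' ≫ w₂) ((yon S).map i' ≫ w₂) := by
    refine isPullback_of_forall_existsUnique ?_ fun T c d h => ?_
    · rw [← cancel_mono (jX k).hom]; simpa only [Category.assoc, ← hbb] using sq.w
    have h' : c ≫ b = d ≫ b := by rw [← hbb]; simpa only [Category.assoc] using congrArg (· ≫ (jX k).hom) h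
    exact ⟨sq.lift c d h', ⟨sq.lift_fst _ _ _, sq.lift_snd _ _ _⟩,
      fun g hg => sq.hom_ext (hg.1.trans (sq.lift_fst _ _ _).symm) (hg.2.trans (sq.lift_snd _ _ _).symm)⟩
  haveI : CompactSpace R.left := compactSpace_relation (hqs k) hS₀ (by
    rintro _ ⟨z, rfl⟩; exact (hAsub z.2).2) sq'
  have := mem_schemeLocus_of_codim_zero X.property hb sq (⟨u₁, huA⟩ : V.left) (by
    rw [ringKrullDim_stalk_eq_coheight] at hdim ⊢
    rw [← coheight_eq_of_isOpenImmersion (x := (⟨u₁, huA⟩ : V.left)) i.left]; exact hdim)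
  rwa [ofPt_yon_comp] at this

theorem decent_finite_iff (X : AlgSp.Space S) :
    (IsDecent X.obj ∧ (irreducibleComponents (Points X.obj)).Finite) ↔
      ∃ (X' : Over S) (j : (yon S).obj X' ⟶ X.obj), RepWith @IsOpenImmersion j ∧
        Dense (Set.range (Points.ofPt j)) ∧ (irreducibleComponents ↥X'.left).Finite ∧
        ∀ x' : ↥X'.left, (∃ T ∈ irreducibleComponents ↥X'.left, IsGenericPoint x' T) →
          RepWith @QuasiCompact (FieldPt.ofPt j x').toHom := by
  constructor
  · rintro ⟨hd, hfin⟩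
    obtain ⟨W, ⟨e⟩⟩ := isRepSh_schemeLocus X.property
    have hj : RepWith @IsOpenImmersion (e.hom ≫ openSubι X.obj (schemeLocus X.obj)) :=
      MorphismProperty.RespectsIso.precomp _ _ _ (repWith_openSubι _ (isOpen_schemeLocus _))
    have hdense : Dense (Set.range (Points.ofPt (e.hom ≫ openSubι X.obj (schemeLocus X.obj)))) := by
      refine (dense_schemeLocus X.property hd).mono fun x hx => ?_
      obtain ⟨y, rfl⟩ := (range_openSubι X.obj (W := schemeLocus X.obj)).symm.subset hx
      rw [range_ofPt]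
      exact ⟨Points.map e.inv y, by rw [← Points.map_comp, e.inv_hom_id_assoc]⟩
    refine ⟨W, e.hom ≫ openSubι X.obj _, hj, hdense,
      (finite_components_of_dense (isOpenEmbedding_ofPt hj) hdense).2 hfin, fun x' _ => ?_⟩
    obtain ⟨p, hp, -, hq⟩ := hd (Points.ofPt (e.hom ≫ openSubι X.obj _) x')
    exact repWith_qc_of_eq X.property hq hp.symm
  · rintro ⟨M, j, hj, hd, hfin, hq⟩
    exact ⟨isDecent_of_dense_scheme X.property j hj hd hfin hq,
      (finite_components_of_dense (isOpenEmbedding_ofPt hj) hd).1 hfin⟩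

end SpectralQuot
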