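import Groth.Agent.SpectralQuot.DecentSober
import Groth.Agent.AlgSpLib.DecentPack
import Groth.Prelude.Def_AlgSpDec
import Groth.Prelude.Def_Flat

/-! Dimension and components of decent spaces. -/

set_option autoImplicit false

universe u

open CategoryTheory CategoryTheory.Limits AlgebraicGeometry Opposite AlgSp AlgSpLib Topology TopologicalSpace

noncomputable section

namespace SpectralQuot

lemma wb_iSup_le {ι : Sort*} {f : ι → WithBot ℕ∞} {a : WithBot ℕ∞} (h : ∀ i, f i ≤ a) : iSup f ≤ a := iSup_le h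
lemma wb_le_iInf {ι : Sort*} {f : ι → WithBot ℕ∞} {a : WithBot ℕ∞} (h : ∀ i, a ≤ f i) : a ≤ iInf f := le_iInf h
lemma wb_le_iSup {ι : Sort*} {f : ι → WithBot ℕ∞} {a : WithBot ℕ∞} (i : ι) (h : a ≤ f i) : a ≤ iSup f := le_iSup_of_le i h
lemma wb_iInf_le {ι : Sort*} {f : ι → WithBot ℕ∞} {a : WithBot ℕ∞} (i : ι) (h : f i ≤ a) : iInf f ≤ a := iInf_le_of_le i h

section Order'

attribute [local instance] specializationOrder

section Top

variable {A B : Type*} [TopologicalSpace A] [TopologicalSpace B]

/-- The dimension of a sober space is computed by chains of specializations. -/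
theorem topologicalKrullDim_eq_krullDim [T0Space A] [QuasiSober A] :
    topologicalKrullDim A = Order.krullDim A :=
  Order.krullDim_eq_of_orderIso (irreducibleSetEquivPoints (α := A))

/-- Component generic points are the maximal points. -/
theorem generic_iff_coheight [T0Space A] [QuasiSober A] (x : A) :
    (∃ T ∈ irreducibleComponents A, IsGenericPoint x T) ↔ Order.coheight x = 0 := by
  rw [Order.coheight_eq_zero]
  constructor
  · rintro ⟨T, hT, hx⟩ y hy
    have h1 : T ⊆ closure {y} := by rw [← hx.def]; exact (show y ⤳ x from hy).closure_subset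
    have h2 := hT.2 isIrreducible_singleton.closure h1
    exact (specializes_iff_mem_closure.mpr (by rw [hx.def]; exact h2 (subset_closure rfl)) : x ⤳ y)
  · intro h
    refine ⟨closure {x}, ⟨isIrreducible_singleton.closure, fun Z hZ hsub => ?_⟩, isGenericPoint_closure⟩
    have hg := hZ.isGenericPoint_genericPoint_closure
    have h1 : hZ.genericPoint ⤳ x := hg.specializes (subset_closure (hsub (subset_closure rfl)))
    have h2 : x ⤳ hZ.genericPoint := h h1
    exact subset_closure.trans (hg.def ▸ h2.closure_subset)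

variable {g : A → B}

theorem strictMono_of_noSpec [T0Space A] [T0Space B] (hg : Continuous g)
    (hns : ∀ u u', u' ⤳ u → g u = g u' → u = u') : StrictMono g := fun u u' h =>
  lt_of_le_of_ne (show g u' ⤳ g u from (show u' ⤳ u from h.le).map hg) fun e => h.ne (hns u u' h.le e)

theorem coheight_eq_of_lift [T0Space A] [T0Space B] (hg : Continuous g)
    (hns : ∀ u u', u' ⤳ u → g u = g u' → u = u')
    (hl : ∀ u y, y ⤳ g u → ∃ u', u' ⤳ u ∧ g u' = y) (u : A) : Order.coheight u = Order.coheight (g u) :=
  Order.coheight_eq_of_strictMono g (strictMono_of_noSpec hg hns) (fun a b hb => by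
    obtain ⟨a', ha', e⟩ := hl a b hb.le
    exact ⟨a', lt_of_le_of_ne ha' fun h => hb.ne (by rw [h, e]), e⟩) u

theorem dim_le_of_noSpec [T0Space A] [QuasiSober A] [T0Space B] [QuasiSober B] (hg : Continuous g)
    (hns : ∀ u u', u' ⤳ u → g u = g u' → u = u') : topologicalKrullDim A ≤ topologicalKrullDim B := by
  rw [topologicalKrullDim_eq_krullDim, topologicalKrullDim_eq_krullDim]
  exact Order.krullDim_le_of_strictMono g (strictMono_of_noSpec hg hns)

theorem dim_le_of_lift [T0Space A] [QuasiSober A] [T0Space B] [QuasiSober B] (hg : Continuous g)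
    (hns : ∀ u u', u' ⤳ u → g u = g u' → u = u')
    (hl : ∀ u y, y ⤳ g u → ∃ u', u' ⤳ u ∧ g u' = y) (hs : Function.Surjective g) :
    topologicalKrullDim B ≤ topologicalKrullDim A := by
  rw [topologicalKrullDim_eq_krullDim, topologicalKrullDim_eq_krullDim]
  refine iSup_le fun p => ?_
  obtain ⟨u, hu⟩ := hs p.head
  have h1 : (p.length : ℕ∞) ≤ Order.coheight u := by
    rw [coheight_eq_of_lift hg hns hl, hu]; exact Order.length_le_coheight_head
  exact le_trans (WithBot.coe_le_coe.mpr h1) (Order.coheight_le_krullDim u)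

end Top

variable {S : Scheme.{u}}

theorem noSpec_ofPt (X : AlgSp.Space S) (hX : IsDecent X.obj) {U : Over S} {a : (yon S).obj U ⟶ X.obj}
    (ha : RepWith @Etale a) (u u' : U.left) (hs : u' ⤳ u) (he : Points.ofPt a u = Points.ofPt a u') : u = u' := by
  refine eq_of_specializes_of_finite X.property (x := Points.ofPt a u') (fun V b hV hb => ?_) ha he rfl hs
  obtain ⟨p, hp, -, hq⟩ := hX (Points.ofPt a u')
  haveI := hV
  rw [← hp]
  exact finite_fibre_of_qc_point hq hb

theorem lift_ofPt (X : AlgSp.Space S) (hX : IsDecent X.obj) {U : Over S} {a : (yon S).obj U ⟶ X.obj}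
    (ha : RepWith @Etale a) (u : U.left) (y : Points X.obj) (hy : y ⤳ Points.ofPt a u) :
    ∃ u' : U.left, u' ⤳ u ∧ Points.ofPt a u' = y := by
  obtain ⟨p, hp, -, hq⟩ := hX y
  exact exists_generalization_lift hy ⟨p, hp, hq⟩ ha rfl

theorem coheight_ofPt (X : AlgSp.Space S) (hX : IsDecent X.obj) [T0Space (Points X.obj)] {U : Over S}
    {a : (yon S).obj U ⟶ X.obj} (ha : RepWith @Etale a) (u : U.left) :
    (Order.coheight (Points.ofPt a u) : WithBot ℕ∞) = ringKrullDim ↥(U.left.presheaf.stalk u) := by
  have h := coheight_eq_of_lift (Points.continuous_ofPt a) (noSpec_ofPt X hX ha) (lift_ofPt X hX ha) u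
  rw [← h, ringKrullDim_stalk_eq_coheight]

theorem generic_iff_hasAt (X : AlgSp.Space S) (hX : IsDecent X.obj) (x : Points X.obj) :
    (∃ T ∈ irreducibleComponents (Points X.obj), IsGenericPoint x T) ↔
      AlgSp.HasAt (fun U u => ringKrullDim ↥(U.presheaf.stalk u) = 0) X.obj x := by
  haveI := t0Space_points X.property hX
  haveI := quasiSober_of_decent X hX
  rw [generic_iff_coheight]
  constructor
  · intro h
    obtain ⟨U, a, ha, has⟩ := X.property.atlas
    obtain ⟨u, rfl⟩ := surjective_ofPt has x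
    exact ⟨U, a, u, ha, rfl, (coheight_ofPt X hX ha u).symm.trans (by rw [h]; rfl)⟩
  · rintro ⟨U, a, u, ha, rfl, h⟩
    rw [← coheight_ofPt X hX ha] at h
    exact WithBot.coe_eq_coe.mp h

theorem coheight_irreducibleCloseds (X : AlgSp.Space S) (hX : IsDecent X.obj)
    (T : IrreducibleCloseds (Points X.obj)) (ξ : Points X.obj)
    (hξ : IsGenericPoint ξ (T : Set (Points X.obj))) {U : Over S} (a : (yon S).obj U ⟶ X.obj)
    (ha : RepWith @Etale a) (u : U.left) (hu : Points.ofPt a u = ξ) :
    (Order.coheight T : WithBot ℕ∞) = ringKrullDim ↥(U.left.presheaf.stalk u) := by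
  haveI := t0Space_points X.property hX
  haveI := quasiSober_of_decent X hX
  subst hu
  rw [← coheight_ofPt X hX ha, ← Order.coheight_orderIso (irreducibleSetEquivPoints (α := Points X.obj)) T]
  congr 2
  exact (T.2.isGenericPoint_genericPoint T.3).eq hξ

theorem generic_iff_of_etale {X Y : AlgSp.Space S} (hX : IsDecent X.obj) (f : Y ⟶ X)
    (hf : IsEtaleMor f.hom) (y : Points Y.obj) :
    (∃ T ∈ irreducibleComponents (Points Y.obj), IsGenericPoint y T) ↔
      (∃ T ∈ irreducibleComponents (Points X.obj), IsGenericPoint (Points.map f.hom y) T) := by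
  have hY := isDecent_of_isEtaleMor Y.property X.property f.hom hf hX
  haveI := t0Space_points X.property hX
  haveI := quasiSober_of_decent X hX
  haveI := t0Space_points Y.property hY
  haveI := quasiSober_of_decent Y hY
  rw [generic_iff_coheight, generic_iff_coheight]
  obtain ⟨U, a, ha, has⟩ := Y.property.atlas
  obtain ⟨u, rfl⟩ := surjective_ofPt has y
  rw [Points.map_ofPt]
  have h : (Order.coheight (Points.ofPt a u) : WithBot ℕ∞) = Order.coheight (Points.ofPt (a ≫ f.hom) u) := by
    rw [coheight_ofPt Y hY ha, coheight_ofPt X hX (hf a ha)]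
  rw [WithBot.coe_eq_coe.mp h]

end Order'

section Dim

variable {S : Scheme.{u}}

theorem dim_eq (X : AlgSp.Space S) (hX : IsDecent X.obj) :
    topologicalKrullDim (Points X.obj) = AlgSp.dim X.obj := by
  haveI := t0Space_points X.property hX
  haveI := quasiSober_of_decent X hX
  unfold AlgSp.dim
  apply le_antisymm
  swap
  · apply wb_iSup_le; intro U
    apply wb_iSup_le; intro a
    apply wb_iSup_le; intro ha
    exact dim_le_of_noSpec (Points.continuous_ofPt a) (noSpec_ofPt X hX ha)
  obtain ⟨U, a, ha, has⟩ := X.property.atlas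
  refine le_trans (dim_le_of_lift (Points.continuous_ofPt a) (noSpec_ofPt X hX ha) (lift_ofPt X hX ha)
    (surjective_ofPt has)) ?_
  refine le_trans ?_ (wb_le_iSup U le_rfl)
  refine le_trans ?_ (wb_le_iSup a le_rfl)
  exact wb_le_iSup ha le_rfl

theorem localDim_eq (X : AlgSp.Space S) (hX : IsDecent X.obj) {U : Over S} (a : (yon S).obj U ⟶ X.obj)
    (ha : RepWith @Etale a) (u : U.left) :
    FlatMor.localDim U.left u = FlatMor.localDim (Points X.obj) (Points.ofPt a u) := by
  haveI := t0Space_points X.property hX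
  haveI := quasiSober_of_decent X hX
  have hsobU : ∀ O : Opens U.left, QuasiSober ↥(O : Set U.left) := fun O => O.2.isOpenEmbedding_subtypeVal.quasiSober
  have hsobX : ∀ W : Opens (Points X.obj), QuasiSober ↥(W : Set (Points X.obj)) :=
    fun W => W.2.isOpenEmbedding_subtypeVal.quasiSober
  unfold FlatMor.localDim
  apply le_antisymm <;> (apply wb_le_iInf; intro W)
  · refine wb_iInf_le ⟨⟨Points.ofPt a ⁻¹' W.1, W.1.2.preimage (Points.continuous_ofPt a)⟩, W.2⟩ ?_
    haveI := hsobX W.1
    haveI := hsobU ⟨Points.ofPt a ⁻¹' W.1, W.1.2.preimage (Points.continuous_ofPt a)⟩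
    exact dim_le_of_noSpec (g := fun v : ↥(Points.ofPt a ⁻¹' (W.1 : Set (Points X.obj))) => (⟨Points.ofPt a v.1, v.2⟩ : ↥(W.1 : Set (Points X.obj))))
      (((Points.continuous_ofPt a).comp continuous_subtype_val).subtype_mk _) fun v v' hs he =>
        Subtype.ext (noSpec_ofPt X hX ha v.1 v'.1 (hs.map continuous_subtype_val) (congrArg Subtype.val he))
  · let O := W
    refine wb_iInf_le ⟨⟨Points.ofPt a '' O.1, isOpenMap_ofPt ha _ O.1.2⟩, ⟨u, O.2, rfl⟩⟩ ?_
    haveI := hsobX ⟨Points.ofPt a '' O.1, isOpenMap_ofPt ha _ O.1.2⟩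
    haveI := hsobU O.1
    refine dim_le_of_lift (g := fun v : ↥(O.1 : Set U.left) => (⟨Points.ofPt a v.1, v.1, v.2, rfl⟩ : ↥(Points.ofPt a '' (O.1 : Set U.left))))
      (((Points.continuous_ofPt a).comp continuous_subtype_val).subtype_mk _) (fun v v' hs he =>
        Subtype.ext (noSpec_ofPt X hX ha v.1 v'.1 (hs.map continuous_subtype_val) (congrArg Subtype.val he)))
      (fun v y hy => ?_) fun ⟨y, v, hv, e⟩ => ⟨⟨v, hv⟩, Subtype.ext e⟩
    obtain ⟨v', hv', e⟩ := lift_ofPt X hX ha v.1 y.1 (hy.map continuous_subtype_val)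
    exact ⟨⟨v', hv'.mem_open O.1.2 v.2⟩, Topology.IsInducing.subtypeVal.specializes_iff.1 hv', Subtype.ext e⟩

end Dim

end SpectralQuot
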