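import Groth.Agent.ProConsLib.Top
import Mathlib

/-! Quotients of spectral spaces by quasi-compact open equivalence relations. -/

set_option autoImplicit false

open Topology TopologicalSpace Set Filter Groth.Agent

namespace SpectralQuot

variable {U E X : Type*} [TopologicalSpace U] [TopologicalSpace E] [TopologicalSpace X]

lemma continuous_cons_of_spectral {s : E → U} (hs : IsSpectralMap s) :
    Continuous[constructibleTopology E, constructibleTopology U] s := by
  refine continuous_generateFrom_iff.mpr fun A hA => isOpen_generateFrom_of_mem ?_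
  rcases hA with hA | hA
  · exact Or.inl ⟨hA.1.preimage hs.continuous, hA.2.preimage_of_isOpen hs hA.1⟩
  · refine Or.inr ⟨hA.1.preimage hs.continuous, ?_⟩
    rw [← preimage_compl]
    exact hA.2.preimage_of_isOpen hs hA.1.isOpen_compl

lemma isOpen_cons_of_isOpen [PrespectralSpace U] {A : Set U} (hA : IsOpen A) :
    IsOpen[constructibleTopology U] A := by
  refine (@isOpen_iff_forall_mem_open U (constructibleTopology U) A).mpr fun a ha => ?_
  obtain ⟨V, ⟨hV, hVc⟩, haV, hVA⟩ :=
    PrespectralSpace.isTopologicalBasis.exists_subset_of_mem_open ha hA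
  exact ⟨V, hVA, hVc.isOpen_constructibleTopology_of_isOpen hV, haV⟩

lemma isClosed_cons_of_isClosed [PrespectralSpace U] {A : Set U} (hA : IsClosed A) :
    IsClosed[constructibleTopology U] A :=
  (@isOpen_compl_iff U A (constructibleTopology U)).mp (isOpen_cons_of_isOpen hA.isOpen_compl)

/-- Every nonempty pro-constructible set has a point which is minimal for generalization. -/
lemma exists_minimal [SpectralSpace U] {C : Set U} (hC : IsClosed[constructibleTopology U] C)
    (hne : C.Nonempty) : ∃ η ∈ C, ∀ y ∈ C, y ⤳ η → y = η := by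
  obtain ⟨c, hc⟩ := hne
  let K := closure C
  have hK : IsClosed K := isClosed_closure
  haveI : QuasiSober K := hK.isClosedEmbedding_subtypeVal.quasiSober
  let Z := irreducibleComponent (⟨c, subset_closure hc⟩ : K)
  have hZi : IsIrreducible Z := isIrreducible_irreducibleComponent
  have hg := hZi.isGenericPoint_genericPoint isClosed_irreducibleComponent
  set p : K := hZi.genericPoint
  have hmin : ∀ q : K, q ⤳ p → q = p := fun q hq => by
    have h1 : Z ⊆ closure ({q} : Set K) := by
      rw [← hg.def]; exact hq.closure_subset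
    have h2 := eq_irreducibleComponent isIrreducible_singleton.closure.isPreirreducible h1
    have h3 : p ⤳ q := specializes_iff_mem_closure.mpr (by
      rw [hg.def, show Z = closure ({q} : Set K) from h2.symm]; exact subset_closure (mem_singleton q))
    exact (hq.antisymm h3).eq
  obtain ⟨y, hy, hyp⟩ := ProConsLib.exists_specializes_of_mem_closure hC p.2
  have e := hmin ⟨y, subset_closure hy⟩ ((Topology.IsInducing.subtypeVal.specializes_iff).mp hyp)
  refine ⟨p.1, by rw [← e]; exact hy, fun z hz hzp => ?_⟩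
  exact congrArg Subtype.val (hmin ⟨z, subset_closure hz⟩ ((Topology.IsInducing.subtypeVal.specializes_iff).mp hzp))

variable [SpectralSpace U] [SpectralSpace E] {π : U → X} {s t : E → U}

include t in
lemma isClosed_fibre (hs : IsSpectralMap s) (ht : IsSpectralMap t)
    (hR : ∀ b c : U, π b = π c ↔ ∃ e, t e = b ∧ s e = c) (c : U) :
    IsClosed[constructibleTopology U] (π ⁻¹' {π c}) := by
  have heq : π ⁻¹' {π c} = t '' (s ⁻¹' {c}) := by
    ext b
    simp only [mem_preimage, mem_singleton_iff, mem_image, hR b c]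
    exact ⟨fun ⟨e, h1, h2⟩ => ⟨e, h2, h1⟩, fun ⟨e, h1, h2⟩ => ⟨e, h2, h1⟩⟩
  rw [heq]
  have h1 : IsClosed[constructibleTopology U] ({c} : Set U) :=
    @isClosed_singleton U (constructibleTopology U)
      (@T2Space.t1Space U (constructibleTopology U) ProConsLib.t2Space_cons) c
  have h2 := @IsClosed.preimage E U (constructibleTopology E) (constructibleTopology U) s
    (continuous_cons_of_spectral hs) {c} h1
  exact @IsCompact.isClosed U (constructibleTopology U) ProConsLib.t2Space_cons _
    (@IsCompact.image E U (constructibleTopology E) (constructibleTopology U) _ t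
      (ProConsLib.isCompact_cons_of_isClosed h2) (continuous_cons_of_spectral ht))

theorem spectralSpace (hc : Continuous π) (ho : IsOpenMap π) (hsurj : Function.Surjective π)
    (hs : IsSpectralMap s) (ht : IsSpectralMap t)
    (hR : ∀ b c : U, π b = π c ↔ ∃ e, t e = b ∧ s e = c) : SpectralSpace X := by
  classical
  have hsat : ∀ V : Set U, π ⁻¹' (π '' V) = t '' (s ⁻¹' V) := fun V => by
    ext b
    constructor
    · rintro ⟨c, hcV, hbc⟩
      obtain ⟨e, h1, h2⟩ := (hR b c).mp hbc.symm
      exact ⟨e, by simpa [h2] using hcV, h1⟩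
    · rintro ⟨e, he, rfl⟩
      exact ⟨s e, he, ((hR (t e) (s e)).mpr ⟨e, rfl, rfl⟩).symm⟩
  have hbasis : ∀ (x : X) (W : Set X), IsOpen W → x ∈ W →
      ∃ V : Set U, IsOpen V ∧ IsCompact V ∧ x ∈ π '' V ∧ V ⊆ π ⁻¹' W := fun x W hW hx => by
    obtain ⟨c, rfl⟩ := hsurj x
    obtain ⟨V, ⟨hV, hVc⟩, hcV, hVW⟩ :=
      PrespectralSpace.isTopologicalBasis.exists_subset_of_mem_open (show c ∈ π ⁻¹' W from hx) (hW.preimage hc)
    exact ⟨V, hV, hVc, ⟨c, hcV, rfl⟩, hVW⟩
  have hpre : ∀ W : Set X, IsOpen W → IsCompact W → IsCompact (π ⁻¹' W) := fun W hW hWc => by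
    choose V hV hVc hxV hVW using fun x : W => hbasis x.1 W hW x.2
    obtain ⟨T, hT⟩ := hWc.elim_finite_subcover (fun x : W => π '' V x) (fun x => ho _ (hV x))
      fun x hx => mem_iUnion.mpr ⟨⟨x, hx⟩, hxV ⟨x, hx⟩⟩
    have : π ⁻¹' W = ⋃ x ∈ T, π ⁻¹' (π '' V x) := by
      refine subset_antisymm ?_ (iUnion₂_subset fun x _ => preimage_mono (image_subset_iff.mpr (hVW x)))
      rw [← preimage_iUnion₂]
      exact preimage_mono hT
    rw [this]
    refine T.finite_toSet.isCompact_biUnion fun x _ => ?_
    rw [hsat]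
    exact ((hVc x).preimage_of_isOpen hs (hV x)).image ht.continuous
  haveI : CompactSpace X := ⟨by rw [← hsurj.range_eq]; exact isCompact_range hc⟩
  haveI : PrespectralSpace X := by
    refine PrespectralSpace.of_isTopologicalBasis (B := {W : Set X | IsOpen W ∧ IsCompact W})
      (isTopologicalBasis_of_isOpen_of_nhds (fun W hW => hW.1) fun x W hx hW => ?_) fun W hW => hW.2
    obtain ⟨V, hV, hVc, hxV, hVW⟩ := hbasis x W hW hx
    exact ⟨π '' V, ⟨ho _ hV, hVc.image hc⟩, hxV, image_subset_iff.mpr hVW⟩
  haveI : QuasiSeparatedSpace X := ⟨fun A B hA hAc hB hBc => by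
    have h := QuasiSeparatedSpace.inter_isCompact (π ⁻¹' A) (π ⁻¹' B) (hA.preimage hc) (hpre A hA hAc)
      (hB.preimage hc) (hpre B hB hBc)
    have h' := h.image hc
    rwa [← preimage_inter, image_preimage_eq _ hsurj] at h'⟩
  haveI : QuasiSober X := by
    refine ⟨fun {Z} hZ hZc => ?_⟩
    have hK : IsClosed[constructibleTopology U] (π ⁻¹' Z) := isClosed_cons_of_isClosed (hZc.preimage hc)
    let ι := {V : Set U // IsOpen V ∧ IsCompact V ∧ (Z ∩ π '' V).Nonempty}
    have hcl : ∀ V : ι, IsClosed[constructibleTopology U] (π ⁻¹' (π '' V.1)) := fun V => by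
      have h1 : IsCompact (π ⁻¹' (π '' V.1)) := by
        rw [hsat]; exact (V.2.2.1.preimage_of_isOpen hs V.2.1).image ht.continuous
      exact (ProConsLib.isClopen_cons_of_isConstructible
        (h1.isConstructible ((ho _ V.2.1).preimage hc))).1
    obtain ⟨η, hηZ, hη⟩ := @IsCompact.inter_iInter_nonempty U (constructibleTopology U) _ ι
      (ProConsLib.isCompact_cons_of_isClosed hK) (fun V => π ⁻¹' (π '' V.1)) hcl fun T => by
        obtain ⟨z, hzZ, hz⟩ := isIrreducible_iff_sInter.mp hZ (T.image fun V : ι => π '' V.1)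
          (fun A hA => by
            obtain ⟨V, -, rfl⟩ := Finset.mem_image.mp hA
            exact ho _ V.2.1)
          (fun A hA => by
            obtain ⟨V, -, rfl⟩ := Finset.mem_image.mp hA
            exact V.2.2.2)
        obtain ⟨c, rfl⟩ := hsurj z
        exact ⟨c, hzZ, mem_iInter₂.mpr fun V hV => hz _ (Finset.mem_image_of_mem _ hV)⟩
    refine ⟨π η, subset_antisymm (hZc.closure_subset_iff.mpr (singleton_subset_iff.mpr hηZ)) fun z hz => ?_⟩
    rw [← specializes_iff_mem_closure, specializes_iff_forall_open]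
    intro W hW hzW
    obtain ⟨V, hV, hVc, hzV, hVW⟩ := hbasis z W hW hzW
    exact image_subset_iff.mpr hVW (mem_iInter.mp hη ⟨V, hV, hVc, ⟨z, hz, hzV⟩⟩)
  haveI : T0Space X := by
    have lift : ∀ (η : U) (y : X), y ⤳ π η → ∃ η' : U, π η' = y ∧ η' ⤳ η := fun η y hy => by
      obtain ⟨c, rfl⟩ := hsurj y
      refine ProConsLib.exists_specializes_of_mem_closure (isClosed_fibre hs ht hR c) ?_
      refine mem_closure_iff.mpr fun W hW hηW => ?_
      obtain ⟨w, hw, hwc⟩ := hy.mem_open (ho W hW) ⟨η, hηW, rfl⟩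
      exact ⟨w, hw, hwc⟩
    refine ⟨fun x y hxy => ?_⟩
    obtain ⟨c, rfl⟩ := hsurj x
    obtain ⟨η, hη, hmin⟩ := exists_minimal (isClosed_fibre hs ht hR c) ⟨c, rfl⟩
    obtain ⟨η', rfl, h1⟩ := lift η y (by rw [show π η = π c from hη]; exact hxy.specializes')
    obtain ⟨η'', h2, h3⟩ := lift η' (π c) hxy.specializes
    have e := hmin η'' h2 (h3.trans h1)
    subst e
    exact h2.symm.trans (congrArg π (h3.antisymm h1).eq)
  exact {}

end SpectralQuot
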