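import Groth.Agent.SpectralQuot.GeomCount
import Groth.Agent.SpectralQuot.Top
import Groth.Agent.AlgSpLib.DecentTop

/-! Decent spaces are sober. -/

set_option autoImplicit false

universe u

open CategoryTheory CategoryTheory.Limits AlgebraicGeometry Opposite AlgSp AlgSpLib Topology TopologicalSpace

noncomputable section

namespace SpectralQuot

/-- Baire for closed subsets of spectral spaces. -/
theorem exists_open_inter_subset {U : Type u} [TopologicalSpace U] [SpectralSpace U] {Z : Set U}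
    (hZ : IsClosed Z) (hne : Z.Nonempty) (E : ℕ → Set U) (hE : ∀ n, IsClosed (E n))
    (hcov : ∀ z ∈ Z, ∃ n, z ∈ E n) :
    ∃ (n : ℕ) (O : Set U), IsOpen O ∧ (O ∩ Z).Nonempty ∧ O ∩ Z ⊆ E n := by
  by_contra! h
  let Good : Set U → Prop := fun V => IsOpen V ∧ IsCompact V ∧ (V ∩ Z).Nonempty
  have step : ∀ (n : ℕ) (V : Set U), Good V → ∃ V', Good V' ∧ V' ⊆ V ∧ Disjoint V' (E n) := by
    rintro n V ⟨hV, -, hVZ⟩
    obtain ⟨z, ⟨hzV, hzZ⟩, hzE⟩ := Set.not_subset.mp (h n V hV hVZ)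
    obtain ⟨W, ⟨hW, hWc⟩, hzW, hWV⟩ := PrespectralSpace.isTopologicalBasis.exists_subset_of_mem_open
      (show z ∈ V ∩ (E n)ᶜ from ⟨hzV, hzE⟩) (hV.inter (hE n).isOpen_compl)
    exact ⟨W, ⟨hW, hWc, z, hzW, hzZ⟩, hWV.trans Set.inter_subset_left,
      Set.disjoint_left.mpr fun a ha => (hWV ha).2⟩
  have h0 : Good Set.univ := ⟨isOpen_univ, isCompact_univ, by simpa using hne⟩
  choose next hnext hsub hdisj using step
  let V : ℕ → {V : Set U // Good V} := fun k => Nat.rec (⟨Set.univ, h0⟩ : {V : Set U // Good V})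
    (fun n V => ⟨next n V.1 V.2, hnext n V.1 V.2⟩) k
  have hmono : ∀ n, (V (n + 1)).1 ∩ Z ⊆ (V n).1 ∩ Z :=
    fun n => Set.inter_subset_inter_left _ (hsub n (V n).1 (V n).2)
  have hcl : ∀ n, IsClosed[constructibleTopology U] ((V n).1 ∩ Z) := fun n =>
    @IsClosed.inter U _ _ (constructibleTopology U)
      (Groth.Agent.ProConsLib.isClopen_cons_of_isConstructible ((V n).2.2.1.isConstructible (V n).2.1)).1
      (isClosed_cons_of_isClosed hZ)
  obtain ⟨z, hz⟩ := @IsCompact.nonempty_iInter_of_sequence_nonempty_isCompact_isClosed U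
    (constructibleTopology U) (fun n => (V n).1 ∩ Z) hmono (fun n => (V n).2.2.2)
    (Groth.Agent.ProConsLib.isCompact_cons_of_isClosed (hcl 0)) hcl
  obtain ⟨n, hn⟩ := hcov z (Set.mem_iInter.mp hz 0).2
  exact Set.disjoint_left.mp (hdisj n (V n).1 (V n).2) (Set.mem_iInter.mp hz (n + 1)).1 hn

/-- A separated etale morphism with finite fibres is quasi-compact over a dense open of a closed set. -/
theorem exists_open_qc {R U : Scheme.{u}} [CompactSpace U] [QuasiSeparatedSpace U] (f : R ⟶ U)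
    [IsSeparated f] [Etale f] {Z : Set U} (hZ : IsClosed Z) (hne : Z.Nonempty)
    (hfin : ∀ z ∈ Z, (f ⁻¹' {z}).Finite) :
    ∃ (V : Set U) (K : Set R), IsOpen V ∧ IsCompact V ∧ (V ∩ Z).Nonempty ∧ IsOpen K ∧ IsCompact K ∧
      f ⁻¹' (V ∩ Z) ⊆ K := by
  classical
  haveI : SpectralSpace U := {}
  obtain ⟨n₁, hn₁⟩ := exists_open_inter_subset hZ hne (fun n => {u | AtLeast f n u}ᶜ)
    (fun n => (isOpen_atLeast f n).isClosed_compl) fun z hz => exists_not_atLeast f z (hfin z hz)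
  have hex : ∃ n, ∃ O : Set U, IsOpen O ∧ (O ∩ Z).Nonempty ∧ O ∩ Z ⊆ {u | AtLeast f n u}ᶜ := ⟨n₁, hn₁⟩
  obtain ⟨O, hO, hOne, hOE⟩ := Nat.find_spec hex
  obtain ⟨m, hm⟩ : ∃ m, Nat.find hex = m + 1 := by
    refine Nat.exists_eq_succ_of_ne_zero fun h0 => ?_
    obtain ⟨z, hz⟩ := hOne
    have := hOE hz
    rw [h0] at this
    exact this (atLeast_zero f z)
  rw [hm] at hOE
  obtain ⟨u₀, hu₀, hum⟩ : ∃ u₀ ∈ O ∩ Z, AtLeast f m u₀ := by
    have h := Nat.find_min hex (show m < Nat.find hex by omega)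
    push Not at h
    obtain ⟨z, hz, hz'⟩ := Set.not_subset.mp (h O hO hOne)
    exact ⟨z, hz, not_not.mp hz'⟩
  obtain ⟨Ω, i₁, i₂, w, g, hw, hg, hgf⟩ := hum
  choose A hA hgA using fun i => exists_isAffineOpen_mem_and_subset (U := ⊤)
    (x := (g i) (IsLocalRing.closedPoint Ω)) trivial
  let K : R.Opens := ⨆ i, A i
  have hKc : IsCompact (K : Set R) := by
    rw [TopologicalSpace.Opens.coe_iSup]
    exact isCompact_iUnion fun i => (hA i).isCompact
  let fK := K.ι ≫ f
  have hu₀K : AtLeast fK m u₀ := by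
    have hr : ∀ i, Set.range (g i) ⊆ Set.range K.ι := fun i => by
      rintro _ ⟨z, rfl⟩
      rw [Scheme.Opens.range_ι, Subsingleton.elim z (IsLocalRing.closedPoint Ω)]
      exact TopologicalSpace.Opens.mem_iSup.mpr ⟨i, (hgA i).1⟩
    refine ⟨Ω, i₁, i₂, w, fun i => IsOpenImmersion.lift K.ι (g i) (hr i), hw, fun i j e => hg ?_, fun i => ?_⟩
    · simpa using congrArg (· ≫ K.ι) e
    · rw [← Category.assoc, IsOpenImmersion.lift_fac, hgf]
  obtain ⟨V, ⟨hV, hVc⟩, huV, hVsub⟩ := PrespectralSpace.isTopologicalBasis.exists_subset_of_mem_open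
    (show u₀ ∈ O ∩ {u | AtLeast fK m u} from ⟨hu₀.1, hu₀K⟩) (hO.inter (isOpen_atLeast fK m))
  refine ⟨V, K, hV, hVc, ⟨u₀, huV, hu₀.2⟩, K.2, hKc, fun r hr => ?_⟩
  by_contra hrK
  obtain ⟨hrV, hrZ⟩ := hr
  obtain ⟨Ω', j₁, j₂, w', g', hw', hg', hgf'⟩ := (hVsub hrV).2
  obtain ⟨l, hl, hlr⟩ := Scheme.exists_fac_of_etale_of_isSepClosed f w' r (by
    rw [← hw', Subsingleton.elim (default : Spec (CommRingCat.of Ω')) (IsLocalRing.closedPoint Ω')])
  refine hOE ⟨(hVsub hrV).1, hrZ⟩ ⟨Ω', j₁, j₂, w', Fin.cons l fun i => g' i ≫ K.ι, hw',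
    Fin.cons_injective_iff.mpr ⟨?_, fun i j e => hg' ((cancel_mono K.ι).mp e)⟩, fun i => ?_⟩
  · rintro ⟨i, rfl⟩
    exact hrK (hlr ▸ ((g' i) default).2)
  · induction i using Fin.cases with
    | zero => simpa using hl
    | succ i => simpa [fK] using hgf' i

variable {S : Scheme.{u}}

/-- Decent spaces are quasi-sober. -/
theorem quasiSober_of_decent (X : AlgSp.Space S) (hX : IsDecent X.obj) : QuasiSober (Points X.obj) := by
  refine ⟨fun {Z} hZ hZc => ?_⟩
  obtain ⟨z₀, hz₀⟩ := hZ.nonempty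
  obtain ⟨U₀, a₀, ha₀, has₀⟩ := X.2.atlas
  obtain ⟨u₀, rfl⟩ := surjective_ofPt has₀ z₀
  obtain ⟨U, j, v₀, hU, rfl, -, ha⟩ := exists_affine_subchart ha₀ u₀
  haveI := hU
  haveI : SpectralSpace U.left := {}
  set a := (yon S).map j ≫ a₀
  obtain ⟨R, t, s, sq⟩ := exists_isPullback_yon a a ha.rep
  haveI : Etale t.left := etale_left (repWith_of_isPullback sq.flip ha)
  haveI : IsSeparated t.left := by
    let δ : R.left ⟶ pullback U.hom U.hom := pullback.lift t.left s.left ((Over.w t).trans (Over.w s).symm)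
    haveI : Mono δ := ⟨fun {W} g h e => by
      have e1 := congrArg (· ≫ pullback.fst U.hom U.hom) e
      have e2 := congrArg (· ≫ pullback.snd U.hom U.hom) e
      simp only [δ, Category.assoc, pullback.lift_fst, pullback.lift_snd] at e1 e2
      let W' : Over S := Over.mk (g ≫ R.hom)
      let g' : W' ⟶ R := Over.homMk g rfl
      let h' : W' ⟶ R := Over.homMk h (by
        show h ≫ R.hom = g ≫ R.hom
        rw [← Over.w t, ← Category.assoc, ← Category.assoc, e1])
      have : g' = h' := (yon S).map_injective (sq.hom_ext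
        (by rw [← Functor.map_comp, ← Functor.map_comp]; exact congrArg _ (Over.OverMorphism.ext e1))
        (by rw [← Functor.map_comp, ← Functor.map_comp]; exact congrArg _ (Over.OverMorphism.ext e2)))
      exact congrArg CommaMorphism.left this⟩
    have e : t.left = δ ≫ pullback.fst U.hom U.hom := (pullback.lift_fst _ _ _).symm
    rw [e]; infer_instance
  let Z' : Set U.left := Points.ofPt a ⁻¹' Z
  have hZ'c : IsClosed Z' := hZc.preimage (Points.continuous_ofPt a)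
  have hv₀ : v₀ ∈ Z' := by
    show Points.ofPt a v₀ ∈ Z
    rw [ofPt_yon_comp]; exact hz₀
  obtain ⟨V, K, hV, hVc, hVZ, hK, hKc, hKsub⟩ := exists_open_qc t.left hZ'c ⟨v₀, hv₀⟩ fun v _ => by
    refine ((exists_decentPt_iff_finite X.2 (Points.ofPt a v)).mpr (hX _) U a hU ha R s t sq).2.subset fun r hr => ?_
    simp only [Set.mem_preimage, Set.mem_singleton_iff] at hr ⊢
    rw [ofPt_yon_comp, hr]
  let KO : R.left.Opens := ⟨K, hK⟩
  haveI : CompactSpace KO.toScheme := isCompact_iff_compactSpace.mp hKc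
  let kι := KO.ι
  haveI : IsSeparated (kι ≫ t.left) := inferInstance
  haveI : KO.toScheme.IsSeparated := ⟨by rw [← terminal.comp_from (kι ≫ t.left)]; infer_instance⟩
  haveI : QuasiCompact (kι ≫ t.left) := quasiCompact_of_compactSpace _
  haveI : QuasiCompact (kι ≫ s.left) := quasiCompact_of_compactSpace _
  let ι := {W : Set U.left // IsOpen W ∧ IsCompact W ∧ (Z ∩ Points.ofPt a '' W).Nonempty}
  let C : ι → Set U.left := fun W => t.left '' (K ∩ t.left ⁻¹' V ∩ s.left ⁻¹' W.1)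
  have hC : ∀ W, IsClosed[constructibleTopology U.left] (C W) := fun W => by
    have h1 : IsCompact ((kι ≫ t.left) ⁻¹' V ∩ (kι ≫ s.left) ⁻¹' W.1) :=
      (QuasiCompact.isCompact_preimage (f := kι ≫ t.left) V hV hVc).inter_of_isOpen
        (QuasiCompact.isCompact_preimage (f := kι ≫ s.left) W.1 W.2.1 W.2.2.1)
        (hV.preimage (kι ≫ t.left).continuous) (W.2.1.preimage (kι ≫ s.left).continuous)
    have h2 : C W = t.left '' (kι '' ((kι ≫ t.left) ⁻¹' V ∩ (kι ≫ s.left) ⁻¹' W.1)) := by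
      refine congrArg (fun A : Set R.left => t.left '' A) (Set.ext fun r => ⟨?_, ?_⟩)
      · rintro ⟨⟨hrK, hrV⟩, hrW⟩
        exact ⟨(⟨r, hrK⟩ : KO), ⟨hrV, hrW⟩, rfl⟩
      rintro ⟨⟨r, hrK⟩, ⟨hrV, hrW⟩, rfl⟩
      exact ⟨⟨hrK, hrV⟩, hrW⟩
    have h3 : IsCompact (C W) := h2 ▸ (h1.image kι.continuous).image t.left.continuous
    have h4 : IsOpen (C W) := t.left.isOpenMap _
      ((hK.inter (hV.preimage t.left.continuous)).inter (W.2.1.preimage s.left.continuous))
    exact (Groth.Agent.ProConsLib.isClopen_cons_of_isConstructible (h3.isConstructible h4)).1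
  have hmem : ∀ v ∈ V ∩ Z', ∀ W : ι, Points.ofPt a v ∈ Points.ofPt a '' W.1 → v ∈ C W := by
    rintro v hv W ⟨c, hc, he⟩
    obtain ⟨r, hrt, hrs⟩ := (ofPt_eq_ofPt_iff sq v c).mp he.symm
    refine ⟨r, ⟨⟨hKsub (show t.left r ∈ V ∩ Z' by rw [hrt]; exact hv), ?_⟩, ?_⟩, hrt⟩
    · rw [Set.mem_preimage, hrt]; exact hv.1
    · rw [Set.mem_preimage, hrs]; exact hc
  have hK0 : IsClosed[constructibleTopology U.left] (V ∩ Z') :=
    @IsClosed.inter U.left _ _ (constructibleTopology U.left)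
      (Groth.Agent.ProConsLib.isClopen_cons_of_isConstructible (hVc.isConstructible hV)).1
      (isClosed_cons_of_isClosed hZ'c)
  have hVim : (Z ∩ Points.ofPt a '' V).Nonempty := by
    obtain ⟨v, hv, hvZ⟩ := hVZ
    exact ⟨_, hvZ, v, hv, rfl⟩
  have hopen := isOpenMap_ofPt ha
  obtain ⟨η, hη, hηC⟩ := @IsCompact.inter_iInter_nonempty U.left (constructibleTopology U.left) _ ι
    (Groth.Agent.ProConsLib.isCompact_cons_of_isClosed hK0) C hC fun T => by
      classical
      obtain ⟨z, hzZ, hz⟩ := isIrreducible_iff_sInter.mp hZ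
        (insert (Points.ofPt a '' V) (T.image fun W : ι => Points.ofPt a '' W.1))
        (fun A hA => by
          rcases Finset.mem_insert.mp hA with rfl | hA
          · exact hopen _ hV
          · obtain ⟨W, -, rfl⟩ := Finset.mem_image.mp hA; exact hopen _ W.2.1)
        (fun A hA => by
          rcases Finset.mem_insert.mp hA with rfl | hA
          · exact hVim
          · obtain ⟨W, -, rfl⟩ := Finset.mem_image.mp hA; exact W.2.2.2)
      obtain ⟨v, hv, rfl⟩ := hz _ (Finset.mem_insert_self _ _)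
      exact ⟨v, ⟨hv, hzZ⟩, Set.mem_iInter₂.mpr fun W hW => hmem v ⟨hv, hzZ⟩ W
        (hz _ (Finset.mem_insert_of_mem (Finset.mem_image_of_mem _ hW)))⟩
  refine ⟨Points.ofPt a η, subset_antisymm (hZc.closure_subset_iff.mpr (Set.singleton_subset_iff.mpr hη.2)) fun z hz => ?_⟩
  rw [← specializes_iff_mem_closure, specializes_iff_forall_open]
  intro W hW hzW
  obtain ⟨y, hyZ, hyW, c, -, rfl⟩ := hZ.2 W (Points.ofPt a '' V) hW (hopen _ hV) ⟨z, hz, hzW⟩ hVim
  obtain ⟨W', ⟨hW', hW'c⟩, hcW', hsub⟩ := PrespectralSpace.isTopologicalBasis.exists_subset_of_mem_open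
    (show c ∈ Points.ofPt a ⁻¹' W from hyW) (hW.preimage (Points.continuous_ofPt a))
  obtain ⟨r, ⟨-, hr⟩, hrη⟩ := Set.mem_iInter.mp hηC ⟨W', hW', hW'c, ⟨_, hyZ, c, hcW', rfl⟩⟩
  have e := (ofPt_eq_ofPt_iff sq η (s.left r)).mpr ⟨r, hrη, rfl⟩
  rw [e]
  exact hsub hr

end SpectralQuot
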