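import Groth.Agent.SpectralQuot.SchematicOpen
import Groth.Agent.SpectralQuot.DecentSober
import Groth.Agent.SpectralQuot.DecentDim
import Groth.Agent.AlgSpLib.DecentBasic
import Groth.Agent.AlgSpLib.Bootstrap
import Groth.Agent.AlgSpLib.SepLqfScheme

/-! The schematic locus of an algebraic space. -/

set_option autoImplicit false

universe u

open CategoryTheory CategoryTheory.Limits AlgebraicGeometry Opposite AlgSp AlgSpLib Topology TopologicalSpace

noncomputable section

namespace SpectralQuot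

variable {S : Scheme.{u}}

/-- The union of all open subspaces which are schemes. -/
def schemeLocus (X : Sp S) : Set (Points X) := ⋃₀ {Ω | IsOpen Ω ∧ IsRepSh (openSub X Ω)}

theorem isOpen_schemeLocus (X : Sp S) : IsOpen (schemeLocus X) := isOpen_sUnion fun _ h => h.1

theorem isRepSh_schemeLocus {X : Sp S} (hX : IsAlgSpace X) : IsRepSh (openSub X (schemeLocus X)) := by
  obtain ⟨U, a, ha, has⟩ := hX.atlas
  choose Ω hΩ hmem using fun u : {u : U.left // Points.ofPt a u ∈ schemeLocus X} => Set.mem_sUnion.mp u.2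
  choose M eM using fun u => (hΩ u).2
  have hle : ∀ u, openSubfunctor X (Ω u) ≤ openSubfunctor X (schemeLocus X) := fun u T x hx t =>
    Set.mem_sUnion.mpr ⟨Ω u, hΩ u, hx t⟩
  let g : ∀ u, openSub X (Ω u) ⟶ openSub X (schemeLocus X) := fun u => ⟨Subfunctor.homOfLe (hle u)⟩
  have hg : ∀ u, g u ≫ openSubι X (schemeLocus X) = openSubι X (Ω u) := fun u => rfl
  have hgo : ∀ u, RepWith @IsOpenImmersion (g u) := fun u => by
    haveI := mono_openSubι X (schemeLocus X)
    refine repWith_of_isPullback (fst := 𝟙 _) (g := openSubι X (schemeLocus X)) (f := openSubι X (Ω u))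
      ?_ (repWith_openSubι X (hΩ u).1)
    exact IsPullback.of_horiz_isIso_mono ⟨by rw [Category.id_comp, hg]⟩
  refine isRepSh_of_openCover (W := M) (fun u => (eM u).some.hom ≫ g u)
    (fun u => MorphismProperty.RespectsIso.precomp _ _ _ (hgo u)) fun Y b y => ?_
  have hy : Points.ofPt (b ≫ openSubι X (schemeLocus X)) y ∈ schemeLocus X :=
    (exists_lift_openSub _).1 ⟨b, rfl⟩ y
  obtain ⟨u, hu⟩ := surjective_ofPt has (Points.ofPt (b ≫ openSubι X (schemeLocus X)) y)
  let u' : {u : U.left // Points.ofPt a u ∈ schemeLocus X} := ⟨u, hu ▸ hy⟩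
  refine ⟨u', ?_⟩
  let O : Y.left.Opens := ⟨Points.ofPt (b ≫ openSubι X (schemeLocus X)) ⁻¹' Ω u',
    (hΩ u').1.preimage (Points.continuous_ofPt _)⟩
  have hyO : y ∈ O := by
    show _ ∈ Ω u'
    rw [← hu]; exact hmem u'
  let o : Over.mk (O.ι ≫ Y.hom) ⟶ Y := Over.homMk O.ι rfl
  obtain ⟨l, hl⟩ := (exists_lift_openSub (W := Ω u') ((yon S).map o ≫ b ≫ openSubι X (schemeLocus X))).2
    fun t => by rw [ofPt_yon_comp]; exact t.2
  obtain ⟨l', hl'⟩ := (yon S).map_surjective (l ≫ (eM u').some.inv)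
  have hl2 : (yon S).map l' ≫ (eM u').some.hom ≫ g u' = (yon S).map o ≫ b := by
    rw [← cancel_mono (openSubι X (schemeLocus X)), hl']
    simp only [Category.assoc, Iso.inv_hom_id_assoc, hg, hl]
  refine ⟨((MorphismProperty.RespectsIso.precomp _ _ _ (hgo u') :
    RepWith @IsOpenImmersion ((eM u').some.hom ≫ g u')).rep.lift (g := b) ((yon S).map l') o hl2).left
      ⟨y, hyO⟩, ?_⟩
  rw [← Scheme.Hom.comp_apply, ← Over.comp_left, Functor.relativelyRepresentable.lift_snd]
  rfl

/-- A point with an affine chart near which the count is constant is schematic. -/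
theorem mem_schemeLocus_of_count {X : Sp S} (hX : IsAlgSpace X) {U R : Over S} [IsAffine U.left]
    {a : (yon S).obj U ⟶ X} (ha : RepWith @Etale a) {t s : R ⟶ U}
    (sq : IsPullback ((yon S).map t) ((yon S).map s) a a) {O : Set U.left} (hO : IsOpen O) (n : ℕ)
    (h₁ : ∀ u ∈ O, AtLeast t.left n u) (h₂ : ∀ u ∈ O, ¬ AtLeast t.left (n + 1) u) :
    Points.ofPt a '' O ⊆ schemeLocus X :=
  Set.subset_sUnion_of_mem ⟨isOpenMap_ofPt ha _ hO, isRepSh_of_count hX ha sq hO n h₁ h₂⟩

/-- The schematic locus of a decent space is dense. -/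
theorem dense_schemeLocus {X : Sp S} (hX : IsAlgSpace X) (hd : IsDecent X) : Dense (schemeLocus X) := by
  classical
  rw [dense_iff_inter_open]
  intro Ω hΩ ⟨x, hx⟩
  obtain ⟨U₀, a₀, ha₀, has₀⟩ := hX.atlas
  obtain ⟨u₀, rfl⟩ := surjective_ofPt has₀ x
  let O₀ : U₀.left.Opens := ⟨Points.ofPt a₀ ⁻¹' Ω, hΩ.preimage (Points.continuous_ofPt a₀)⟩
  obtain ⟨A, hA, hu₀, hAO⟩ := exists_isAffineOpen_mem_and_subset (U := O₀) (x := u₀) hx
  let U : Over S := Over.mk (A.ι ≫ U₀.hom)
  haveI : IsAffine U.left := hA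
  haveI : SpectralSpace U.left := {}
  let j : U ⟶ U₀ := Over.homMk A.ι rfl
  let a := (yon S).map j ≫ a₀
  have ha : RepWith @Etale a :=
    repWith_comp ((repWith_yon_map_iff (P := (@Etale : MorphismProperty Scheme.{u})) j).2
      (inferInstanceAs (Etale A.ι))) ha₀
  have him : ∀ u : U.left, Points.ofPt a u ∈ Ω := fun u => by
    rw [ofPt_yon_comp]; exact hAO u.2
  obtain ⟨R, t, s, sq⟩ := exists_isPullback_yon a a ha.rep
  haveI : Etale t.left := etale_left (repWith_of_isPullback sq.flip ha)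
  haveI := isSeparated_t sq
  have hfin : ∀ v : U.left, (t.left ⁻¹' {v}).Finite := fun v => by
    refine ((exists_decentPt_iff_finite hX (Points.ofPt a v)).mpr (hd _) U a hA ha R s t sq).2.subset fun r hr => ?_
    simp only [Set.mem_preimage, Set.mem_singleton_iff] at hr ⊢
    rw [ofPt_yon_comp, hr]
  obtain ⟨n₁, hn₁⟩ := exists_open_inter_subset (U := U.left) isClosed_univ ⟨⟨u₀, hu₀⟩, trivial⟩
    (fun n => {u | AtLeast t.left n u}ᶜ) (fun n => (isOpen_atLeast t.left n).isClosed_compl)
    fun z _ => exists_not_atLeast t.left z (hfin z)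
  have hex : ∃ n, ∃ O : Set U.left, IsOpen O ∧ (O ∩ Set.univ).Nonempty ∧
      O ∩ Set.univ ⊆ {u | AtLeast t.left n u}ᶜ := ⟨n₁, hn₁⟩
  obtain ⟨O, hO, hOne, hOE⟩ := Nat.find_spec hex
  obtain ⟨m, hm⟩ : ∃ m, Nat.find hex = m + 1 := by
    refine Nat.exists_eq_succ_of_ne_zero fun h0 => ?_
    obtain ⟨z, hz⟩ := hOne
    have := hOE hz
    rw [h0] at this
    exact this (atLeast_zero t.left z)
  rw [hm] at hOE
  obtain ⟨u, hu, hum⟩ : ∃ u ∈ O, AtLeast t.left m u := by
    by_contra! h
    exact Nat.find_min hex (show m < Nat.find hex by omega)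
      ⟨O, hO, hOne, fun z hz => h z hz.1⟩
  exact ⟨Points.ofPt a u, him u,
    mem_schemeLocus_of_count hX ha sq (hO.inter (isOpen_atLeast t.left m)) m (fun z hz => hz.2)
      (fun z hz => hOE ⟨hz.1, trivial⟩) ⟨u, ⟨hu, hum⟩, rfl⟩⟩

/-- Codimension zero points of an affine chart with quasi-compact relation are schematic. -/
theorem mem_schemeLocus_of_codim_zero {X : Sp S} (hX : IsAlgSpace X) {U R : Over S} [IsAffine U.left]
    {a : (yon S).obj U ⟶ X} (ha : RepWith @Etale a) {t s : R ⟶ U}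
    (sq : IsPullback ((yon S).map t) ((yon S).map s) a a) [CompactSpace R.left] (v : U.left)
    (hv : ringKrullDim ↥(U.left.presheaf.stalk v) = 0) : Points.ofPt a v ∈ schemeLocus X := by
  classical
  haveI : Etale t.left := etale_left (repWith_of_isPullback sq.flip ha)
  haveI := isSeparated_t sq
  haveI : QuasiCompact t.left := quasiCompact_of_compactSpace _
  haveI : SpectralSpace U.left := {}
  haveI := AlgSpLib.locallyQuasiFinite_of_etale t.left
  have hex := exists_not_atLeast t.left v (t.left.finite_preimage_singleton v)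
  obtain ⟨m, hm⟩ : ∃ m, Nat.find hex = m + 1 :=
    Nat.exists_eq_succ_of_ne_zero fun h0 => (h0 ▸ Nat.find_spec hex) (atLeast_zero t.left v)
  have h2 : ¬ AtLeast t.left (m + 1) v := hm ▸ Nat.find_spec hex
  have h1 : AtLeast t.left m v := not_not.mp (Nat.find_min hex (show m < Nat.find hex by omega))
  let A : Set U.left := {u | AtLeast t.left (m + 1) u}
  have hAc : IsClosed[constructibleTopology U.left] A :=
    (Groth.Agent.ProConsLib.isClopen_cons_of_isConstructible
      ((isCompact_atLeast t.left (m + 1)).isConstructible (isOpen_atLeast t.left (m + 1)))).1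
  have hmax : ∀ z : U.left, z ⤳ v → z = v := fun z hz => by
    rw [ringKrullDim_stalk_eq_coheight, ← WithBot.coe_zero, WithBot.coe_eq_coe, Order.coheight_eq_zero] at hv
    exact (hz.antisymm (Scheme.le_iff_specializes.mp (hv (Scheme.le_iff_specializes.mpr hz)))).eq
  have hvA : v ∉ closure A := fun hc => by
    obtain ⟨z, hz, hzv⟩ := Groth.Agent.ProConsLib.exists_specializes_of_mem_closure hAc hc
    exact h2 (hmax z hzv ▸ hz)
  exact mem_schemeLocus_of_count hX ha sq ((isOpen_atLeast t.left m).inter (isOpen_compl_iff.mpr isClosed_closure))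
    m (fun z hz => hz.1) (fun z hz h => hz.2 (subset_closure h)) ⟨v, ⟨h1, hvA⟩, rfl⟩

end SpectralQuot
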