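import Groth.Agent.AlgSpLib.QcQs
import Groth.Agent.SpectralQuot.Top

/-! The space of points of a quasi-compact quasi-separated algebraic space is spectral. -/

set_option autoImplicit false

universe u

open CategoryTheory CategoryTheory.Limits AlgebraicGeometry Opposite AlgSp AlgSpLib Topology

noncomputable section

namespace SpectralQuot

variable {S : Scheme.{u}}

theorem spectralSpace_space [QuasiSeparatedSpace ↥S] (X : AlgSp.Space S) (hqc : IsQuasiCompactSp X.obj)
    (hqs : IsQuasiSeparatedSp X.obj) : SpectralSpace (Points X.obj) := by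
  obtain ⟨U, a, hU, ha, has⟩ := exists_affine_chart hqc
  haveI := hU
  obtain ⟨W, p, q, sq⟩ := exists_isPullback_yon a a ha.rep
  have hprod := isAlgSpace_prod (IsAlgSpace.yon_obj (S := S) U) (IsAlgSpace.yon_obj U)
  have hW : IsQuasiCompactSp ((yon S).obj W) :=
    isQuasiCompactMor_of_repWith (IsAlgSpace.yon_obj W) hprod (repWith_of_isPullback (isPullback_diag_prod sq) hqs)
      hprod (isQuasiCompactSp_prod_yon U U) (𝟙 _) (𝟙 _) _ IsPullback.of_id_fst
  obtain ⟨E, r, hE, -, hr⟩ := exists_affine_chart hW
  haveI := hE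
  obtain ⟨r', rfl⟩ := (yon S).map_surjective r
  haveI : Surjective r'.left :=
    (repWith_yon_map_iff (P := (@Surjective : MorphismProperty Scheme.{u})) r').1 hr
  have hsp : ∀ f : E ⟶ U, IsSpectralMap f.left := fun f => by
    haveI : QuasiCompact f.left := quasiCompact_of_compactSpace f.left
    exact { toContinuous := f.left.continuous, isCompact_preimage_of_isOpen := fun V hV hVc => QuasiCompact.isCompact_preimage (f := f.left) V hV hVc }
  haveI : SpectralSpace U.left := {}
  haveI : SpectralSpace E.left := {}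
  refine SpectralQuot.spectralSpace (Points.continuous_ofPt a) (isOpenMap_ofPt ha) (surjective_ofPt has)
    (hsp (r' ≫ q)) (hsp (r' ≫ p)) fun b c => ?_
  rw [ofPt_eq_ofPt_iff sq b c]
  constructor
  · rintro ⟨w, h1, h2⟩
    obtain ⟨e, rfl⟩ := r'.left.surjective w
    exact ⟨e, h1, h2⟩
  · rintro ⟨e, h1, h2⟩
    exact ⟨r'.left e, h1, h2⟩

end SpectralQuot
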