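import Groth.Agent.SpectralQuot.DecentDim
import Groth.Agent.AlgSpLib.PointFactor

/-! Jacobson decent spaces. -/

set_option autoImplicit false

universe u

open CategoryTheory CategoryTheory.Limits AlgebraicGeometry Opposite AlgSp AlgSpLib Topology TopologicalSpace

noncomputable section

namespace SpectralQuot

variable {S : Scheme.{u}}

theorem jacobson_iff (X : AlgSp.Space S) (hd : IsDecent X.obj) :
    AlgSp.EtaleLocally (fun U => JacobsonSpace ↥U) X.obj ↔ JacobsonSpace (Points X.obj) := by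
  constructor
  · intro hJ
    refine jacobsonSpace_iff_locallyClosed.mpr fun Z hZ hZl => ?_
    obtain ⟨U, a, ha, has, hU⟩ := id hJ
    haveI : JacobsonSpace U.left := hU
    obtain ⟨z, hz⟩ := hZ
    obtain ⟨u₀, rfl⟩ := surjective_ofPt has z
    obtain ⟨u, hu, huc⟩ := nonempty_inter_closedPoints (Z := Points.ofPt a ⁻¹' Z) ⟨u₀, hz⟩
      (hZl.preimage (Points.continuous_ofPt a))
    exact ⟨_, hu, (closed_point_iff hd X.property hJ (Points.ofPt a u)).1 ⟨U, a, u, ha, rfl, huc⟩⟩
  · intro hJ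
    obtain ⟨U, a, ha, has⟩ := X.property.atlas
    refine ⟨U, a, ha, has, jacobsonSpace_iff_locallyClosed.mpr fun Z hZ hZl => ?_⟩
    haveI := t0Space_points X.property hd
    obtain ⟨O₁, C, hO₁, hC, rfl⟩ := hZl
    obtain ⟨z, hzO, hzC⟩ := hZ
    obtain ⟨V, hV, hzV, hVO⟩ := exists_isAffineOpen_mem_and_subset (U := ⟨O₁, hO₁⟩) hzO
    haveI : CompactSpace ↥(V : Set U.left) := isCompact_iff_compactSpace.mp hV.isCompact
    obtain ⟨⟨u, huV⟩, huC, huc⟩ := (hC.preimage (continuous_subtype_val (p := fun v => v ∈ V))).exists_closed_singleton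
      ⟨⟨z, hzV⟩, hzC⟩
    obtain ⟨C', hC', e⟩ := isClosed_induced_iff.mp huc
    have hmem : ∀ v ∈ V, v ∈ C' → v = u := fun v hv hvC =>
      congrArg Subtype.val (show (⟨v, hv⟩ : ↥(V : Set U.left)) ∈ ({⟨u, huV⟩} : Set _) from e ▸ hvC)
    have huC' : u ∈ C' :=
      show (⟨u, huV⟩ : ↥(V : Set U.left)) ∈ Subtype.val ⁻¹' C' from e.symm ▸ Set.mem_singleton _
    -- the other points of the fibre
    obtain ⟨p, hp, -, hq⟩ := hd (Points.ofPt a u)
    let Uv : Over S := Over.mk (V.ι ≫ U.hom)
    let j : Uv ⟶ U := Over.homMk V.ι rfl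
    haveI : IsAffine Uv.left := hV
    have hb : RepWith @Etale ((yon S).map j ≫ a) :=
      repWith_comp ((repWith_yon_map_iff (P := (@Etale : MorphismProperty Scheme.{u})) j).2
        (inferInstanceAs (Etale V.ι))) ha
    have hfin : (Points.ofPt a ⁻¹' {Points.ofPt a u} ∩ (V : Set U.left)).Finite := by
      have h := finite_fibre_of_qc_point hq hb
      rw [hp] at h
      refine (h.image j.left).subset ?_
      rintro v ⟨hv, hvV⟩
      exact ⟨(⟨v, hvV⟩ : V), (ofPt_yon_comp j a _).trans hv, rfl⟩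
    let F := (Points.ofPt a ⁻¹' {Points.ofPt a u} ∩ (V : Set U.left)) \ {u}
    let O' : Set U.left := (V : Set U.left) \ closure F
    have hO' : IsOpen O' := V.2.sdiff isClosed_closure
    have huO' : u ∈ O' := ⟨huV, fun h => by
      have hf : F.Finite := hfin.subset Set.sdiff_subset
      rw [← Set.biUnion_of_singleton F, hf.closure_biUnion] at h
      obtain ⟨w, hw, hwu⟩ := Set.mem_iUnion₂.1 h
      exact hw.2 (noSpec_ofPt X hd ha u w (specializes_iff_mem_closure.2 hwu) hw.1.1.symm).symm⟩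
    have hx : IsLocallyClosed ({Points.ofPt a u} : Set (Points X.obj)) := by
      refine ⟨Points.ofPt a '' O', closure {Points.ofPt a u}, isOpenMap_ofPt ha _ hO', isClosed_closure, ?_⟩
      refine subset_antisymm (Set.singleton_subset_iff.mpr ⟨⟨u, huO', rfl⟩, subset_closure rfl⟩) ?_
      rintro _ ⟨⟨v, hvO, rfl⟩, hv⟩
      obtain ⟨u', hu', he⟩ := lift_ofPt X hd ha v _ (specializes_iff_mem_closure.2 hv)
      have hu'O := hu'.mem_open hO' hvO
      have e1 : u' = u := by_contra fun hne => hu'O.2 (subset_closure ⟨⟨he, hu'O.1⟩, hne⟩)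
      subst e1
      rw [hmem v hvO.1 (hu'.mem_closed hC' huC')]
      rfl
    have hxc := isClosed_singleton_of_isLocallyClosed_singleton hx
    refine ⟨u, ⟨hVO huV, huC⟩, isClosed_iff_clusterPt.mpr fun v hv => ?_⟩
    have hv' : u ⤳ v := specializes_iff_mem_closure.2 (mem_closure_iff_clusterPt.mpr hv)
    have he : Points.ofPt a v = Points.ofPt a u := (hxc.preimage (Points.continuous_ofPt a)).closure_subset_iff.mpr
      (Set.singleton_subset_iff.mpr rfl) hv'.mem_closure
    exact noSpec_ofPt X hd ha v u hv' he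

end SpectralQuot
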