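import Groth.Agent.AlgStLib.QcMor
import Groth.Agent.SpectralQuot.Top

/-! The space of points of a quasi-compact stack with quasi-compact diagonal. -/

set_option autoImplicit false
set_option backward.isDefEq.respectTransparency false
set_option backward.isDefEq.respectTransparency.types false

universe u

open CategoryTheory CategoryTheory.Limits AlgebraicGeometry Opposite AlgSp FibCat FibLib AlgSpLib Topology AlgStLib

noncomputable section

namespace SpectralQuot

variable {S : Scheme.{u}} {𝒳 : AlgSt.Cat S}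

local notation "IsAS" => AlgSt.IsAlgStack Scheme.fppfPrecoverage

/-- The fibre square of a map from an affine scheme is quasi-compact. -/
theorem isQuasiCompact_fp [QuasiSeparatedSpace S] (h𝒳 : IsAS 𝒳)
    (hΔ : AlgSt.RepByAlgSpWith AlgSp.IsQuasiCompactMor (FibCat.diag (FibCat.toSelf 𝒳)))
    (U : Over S) [IsAffine U.left] (x : AlgSt.ofSch U ⥤ᵇ 𝒳) : AlgSt.IsQuasiCompact (fp x x) := by
  haveI := isFibGrpd_of_isAlgStack h𝒳
  have hU := isAlgStack_ofSch U
  have hqU : AlgSt.IsQuasiCompact (AlgSt.ofSch U) :=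
    isQuasiCompact_ofSp (IsAlgSpace.yon_obj U) (isQuasiCompactSp_yon U)
  haveI := isFibGrpd_of_isAlgStack hU
  have hSelf := isAlgStack_selfOver (S := S)
  haveI := isFibGrpd_of_isAlgStack hSelf
  let xt := BasedFunctor.comp x (toSelf 𝒳)
  have hR := isAlgStack_fp' hU hU h𝒳 x x
  have hT := isAlgStack_fp' hU hU hSelf xt xt
  haveI := isFibGrpd_of_isAlgStack hR
  haveI := isFibGrpd_of_isAlgStack hT
  have hC := repByAlgSpWith_fpComparison x x (toSelf 𝒳) (whiskerRightIso' (fpIso x x) (toSelf 𝒳))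
    (fun _ => rfl) hΔ
  set C := fpLift (G := xt) (F := xt) (FibCat.fpFst x x) (FibCat.fpSnd x x)
    (whiskerRightIso' (fpIso x x) (toSelf 𝒳))
  have hCq := (isQcM_iff_rep hR hT (repByAlgSp1_of_with hC)).1 hC
  obtain ⟨α⟩ := nonempty_iso_selfOver xt (toSelf (AlgSt.ofSch U))
  have hTq : AlgSt.IsQuasiCompact (fp xt xt) :=
    isQuasiCompact_of_equivTo (isAlgStack_fp' hU hU hSelf _ _) hT (equivTo_fp_congr α α)
      (isQcM_toSelf hU hqU (AlgSt.ofSch U) hU hqU (toSelf (AlgSt.ofSch U)))
  refine isQuasiCompact_of_surjective (isAlgStack_fp' hT hR hT (BasedFunctor.id _) C) hR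
    (FibCat.fpSnd (BasedFunctor.id (fp xt xt)) C) (fun w => ?_)
    (hCq _ hT hTq (BasedFunctor.id (fp xt xt)))
  obtain ⟨v, -, hv⟩ := exists_point_fp (g := BasedFunctor.id (fp xt xt)) (f := C) (AlgSt.Points.map C w) w (map_id _)
  exact ⟨v, hv⟩

/-- An affine presentation of the relation on an affine chart. -/
theorem exists_relation [QuasiSeparatedSpace S] (h𝒳 : IsAS 𝒳)
    (hΔ : AlgSt.RepByAlgSpWith AlgSp.IsQuasiCompactMor (FibCat.diag (FibCat.toSelf 𝒳)))
    (U : Over S) [IsAffine U.left] (x : overCat U ⥤ᵇ 𝒳) (hx : AlgSt.RepByAlgSpWith (LocP @Smooth) x) :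
    ∃ (E : Over S) (_ : IsAffine E.left) (s t : E ⟶ U), ∀ b c : U.left,
      AlgSt.Points.ofChart x b = AlgSt.Points.ofChart x c ↔ ∃ e : E.left, t.left e = b ∧ s.left e = c := by
  haveI := isFibGrpd_of_isAlgStack h𝒳
  haveI : IsFibGrpd (AlgSt.ofSch U).p := Stk.isFibGrpd_ofPsh _
  let x' : AlgSt.ofSch U ⥤ᵇ 𝒳 := BasedFunctor.comp (AlgSt.toOverCat U) x
  obtain ⟨H, a, hH, ha, -⟩ := (repByAlgSpWith_iff _ x').mp (repByAlgSpWith_toOverCat_comp hx) U x'
  obtain ⟨v, hv⟩ := preimage_image_along ha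
  obtain ⟨m, hm⟩ := ptMap_toOver v
  obtain ⟨e, he, -⟩ := ha
  have hHq : IsQuasiCompactSp H := by
    have hU := isAlgStack_ofSch U
    have hR := isAlgStack_fp' hU hU h𝒳 x' x'
    obtain ⟨G, hG, -, -⟩ := exists_inverse he
    exact isQuasiCompactSp_of_stack hH (isQuasiCompact_of_surjective hR (isAlgStack_ofSp hH) G
      (map_bijective_of_isEquivOver hG).2 (isQuasiCompact_fp h𝒳 hΔ U x'))
  obtain ⟨E, p, hE, -, hp⟩ := exists_affine_chart hHq
  obtain ⟨s, hs⟩ := (yon S).map_surjective (p ≫ m)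
  obtain ⟨t, ht⟩ := (yon S).map_surjective (p ≫ a)
  refine ⟨E, hE, s, t, fun b c => ?_⟩
  have hpt : AlgSt.Points.ofChart x = ptMap x' ∘ AlgSp.Points.schemeHomeo U := ofChart_eq x
  have hsurj := map_surjective_of_repWith hp
  have hsm : ∀ z : E.left, Points.map m (Points.map p (Points.schemeHomeo E z)) = Points.schemeHomeo U (s.left z) :=
    fun z => by rw [← Points.map_comp, ← hs]; exact Points.map_yon_map_apply s z
  have hta : ∀ z : E.left, Points.map a (Points.map p (Points.schemeHomeo E z)) = Points.schemeHomeo U (t.left z) :=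
    fun z => by rw [← Points.map_comp, ← ht]; exact Points.map_yon_map_apply t z
  let A : Set (AlgSt.Points (AlgSt.ofSch U)) := {(ptsEquiv _).symm (Points.schemeHomeo U c)}
  have key : AlgSt.Points.ofChart x b = AlgSt.Points.ofChart x c ↔
      Points.schemeHomeo U b ∈ Points.map a '' (ptMap v ⁻¹' A) := by
    rw [← hv A, hpt]
    simp only [A, Set.image_singleton, Set.mem_preimage, Set.mem_singleton_iff]
    exact Iff.rfl
  rw [key]
  constructor
  · rintro ⟨h, hh, hab⟩
    obtain ⟨w, rfl⟩ := hsurj h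
    obtain ⟨z, rfl⟩ := (Points.schemeHomeo E).surjective w
    refine ⟨z, (Points.schemeHomeo U).injective ((hta z).symm.trans hab), (Points.schemeHomeo U).injective ?_⟩
    simp only [A, Set.mem_preimage, Set.mem_singleton_iff, ptMap, hm, Function.comp_apply,
      Equiv.apply_symm_apply] at hh
    exact (hsm z).symm.trans ((ptsEquiv _).symm.injective hh)
  · rintro ⟨z, rfl, rfl⟩
    refine ⟨_, ?_, hta z⟩
    simp only [A, Set.mem_preimage, Set.mem_singleton_iff, ptMap, hm, Function.comp_apply,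
      Equiv.apply_symm_apply, hsm]

theorem spectralSpace_points [QuasiSeparatedSpace S] (h𝒳 : IsAS 𝒳) (hqc : AlgSt.IsQuasiCompact 𝒳)
    (hΔ : AlgSt.RepByAlgSpWith AlgSp.IsQuasiCompactMor (FibCat.diag (FibCat.toSelf 𝒳))) :
    SpectralSpace (AlgSt.Points 𝒳) := by
  haveI := isFibGrpd_of_isAlgStack h𝒳
  obtain ⟨U, x, hU, hx, hxs⟩ := hqc
  haveI := hU
  obtain ⟨E, hE, s, t, hR⟩ := exists_relation h𝒳 hΔ U x hx
  haveI := hE
  have hsp : ∀ f : E ⟶ U, IsSpectralMap f.left := fun f => by
    haveI : QuasiCompact f.left := quasiCompact_of_compactSpace f.left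
    exact { toContinuous := f.left.continuous, isCompact_preimage_of_isOpen := fun V hV hVc => QuasiCompact.isCompact_preimage (f := f.left) V hV hVc }
  haveI : SpectralSpace U.left := {}
  haveI : SpectralSpace E.left := {}
  exact SpectralQuot.spectralSpace (continuous_ofChart h𝒳.atlas x) (isOpenMap_ofChart_smooth x hx)
    (surjective_ofChart hxs) (hsp s) (hsp t) hR

end SpectralQuot
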