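import Groth.Agent.SpectralQuot.Chart

/-! Stacks with quasi-compact diagonal are locally spectral. -/

set_option autoImplicit false
set_option backward.isDefEq.respectTransparency false
set_option backward.isDefEq.respectTransparency.types false

universe u

open CategoryTheory CategoryTheory.Limits AlgebraicGeometry Opposite AlgSp FibCat FibLib AlgSpLib Topology AlgStLib

noncomputable section

namespace SpectralQuot

variable {S : Scheme.{u}} {𝒳 : AlgSt.Cat S}

local notation "IsAS" => AlgSt.IsAlgStack Scheme.fppfPrecoverage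

theorem spectralSpace_range [QuasiSeparatedSpace S] (h𝒳 : IsAS 𝒳)
    (hΔ : AlgSt.RepByAlgSpWith AlgSp.IsQuasiCompactMor (FibCat.diag (FibCat.toSelf 𝒳)))
    (U : Over S) [IsAffine U.left] (x : overCat U ⥤ᵇ 𝒳) (hx : AlgSt.RepByAlgSpWith (LocP @Smooth) x) :
    IsOpen (Set.range (AlgSt.Points.ofChart x)) ∧ SpectralSpace ↥(Set.range (AlgSt.Points.ofChart x)) := by
  haveI := isFibGrpd_of_isAlgStack h𝒳
  obtain ⟨E, hE, s, t, hR⟩ := exists_relation h𝒳 hΔ U x hx
  haveI := hE
  have hsp : ∀ f : E ⟶ U, IsSpectralMap f.left := fun f => by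
    haveI : QuasiCompact f.left := quasiCompact_of_compactSpace f.left
    exact { toContinuous := f.left.continuous, isCompact_preimage_of_isOpen := fun V hV hVc => QuasiCompact.isCompact_preimage (f := f.left) V hV hVc }
  haveI : SpectralSpace U.left := {}
  haveI : SpectralSpace E.left := {}
  have ho := isOpenMap_ofChart_smooth x hx
  refine ⟨ho.isOpen_range, SpectralQuot.spectralSpace (π := Set.rangeFactorization (AlgSt.Points.ofChart x))
    ((continuous_ofChart h𝒳.atlas x).subtype_mk _) (fun O hO => ?_) Set.rangeFactorization_surjective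
    (hsp s) (hsp t) fun b c => ?_⟩
  · rw [isOpen_induced_iff]
    refine ⟨_, ho O hO, ?_⟩
    ext ⟨y, hy⟩
    constructor
    · rintro ⟨a, ha, rfl⟩; exact ⟨a, ha, rfl⟩
    · rintro ⟨a, ha, hay⟩; exact ⟨a, ha, congrArg Subtype.val hay⟩
  · rw [← hR b c]
    exact Subtype.ext_iff

theorem locally_spectral [QuasiSeparatedSpace S] (h𝒳 : IsAS 𝒳)
    (hΔ : AlgSt.RepByAlgSpWith AlgSp.IsQuasiCompactMor (FibCat.diag (FibCat.toSelf 𝒳))) :
    (∀ x : AlgSt.Points 𝒳, ∃ U : Set (AlgSt.Points 𝒳), IsOpen U ∧ x ∈ U ∧ SpectralSpace ↥U) ∧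
      QuasiSober (AlgSt.Points 𝒳) ∧ T0Space (AlgSt.Points 𝒳) := by
  haveI := isFibGrpd_of_isAlgStack h𝒳
  have key : ∀ z : AlgSt.Points 𝒳, ∃ U : Set (AlgSt.Points 𝒳), IsOpen U ∧ z ∈ U ∧ SpectralSpace ↥U := by
    intro z
    obtain ⟨V, x, hx, hxs⟩ := h𝒳.atlas
    obtain ⟨v, rfl⟩ := surjective_ofChart hxs z
    obtain ⟨O, hO, hvO, -⟩ := exists_isAffineOpen_mem_and_subset (U := ⊤) (x := v) trivial
    let U' : Over S := Over.mk (O.ι ≫ V.hom)
    let j : U' ⟶ V := Over.homMk O.ι rfl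
    haveI : IsAffine U'.left := hO
    have hj : LocP @Smooth ((yon S).map j) := locP_smooth_of_isEtaleMor (isEtaleMor_of_repWith
      ((repWith_yon_map_iff (P := (@Etale : MorphismProperty Scheme.{u})) j).2 (inferInstanceAs (Etale O.ι))))
    haveI := FibLib.isFibGrpd_overCat V
    haveI := FibLib.isFibGrpd_overCat U'
    have hx' := repByAlgSpWith_comp' good_smooth (repByAlgSpWith_overMap good_smooth.bc j hj) hx
    obtain ⟨h1, h2⟩ := spectralSpace_range h𝒳 hΔ U' _ hx'
    exact ⟨_, h1, ⟨⟨v, hvO⟩, by rw [ofChart_overMap]; rfl⟩, h2⟩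
  choose W hWo hWx hWs using key
  refine ⟨fun z => ⟨W z, hWo z, hWx z, hWs z⟩, ?_, T0Space.of_open_cover fun z => ⟨W z, hWx z, hWo z, (hWs z).toT0Space⟩⟩
  haveI : ∀ A : Set.range W, QuasiSober (A : Set (AlgSt.Points 𝒳)) := by
    rintro ⟨_, z, rfl⟩
    exact (hWs z).toQuasiSober
  exact quasiSober_of_open_cover (Set.range W) (by rintro ⟨_, z, rfl⟩; exact hWo z)
    (Set.eq_univ_of_forall fun z => ⟨W z, ⟨z, rfl⟩, hWx z⟩)

end SpectralQuot
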