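import Mathlib

/-! Lower semicontinuity of the number of geometric points in the fibres of a separated etale morphism. -/

set_option autoImplicit false

universe u

open CategoryTheory CategoryTheory.Limits AlgebraicGeometry Topology

noncomputable section

namespace SpectralQuot

variable {R U : Scheme.{u}} (f : R ⟶ U)

/-- The fibre over `u` has at least `n` geometric points. -/
def AtLeast (n : ℕ) (u : U) : Prop :=
  ∃ (Ω : Type u) (_ : Field Ω) (_ : IsAlgClosed Ω) (w : Spec (CommRingCat.of Ω) ⟶ U)
    (g : Fin n → (Spec (CommRingCat.of Ω) ⟶ R)),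
    w (IsLocalRing.closedPoint Ω) = u ∧ Function.Injective g ∧ ∀ i, g i ≫ f = w

/-- A geometric point over any point. -/
theorem exists_geomPoint (u : U) : ∃ (Ω : Type u) (_ : Field Ω) (_ : IsAlgClosed Ω)
    (w : Spec (CommRingCat.of Ω) ⟶ U), w (IsLocalRing.closedPoint Ω) = u := by
  let K := AlgebraicClosure (U.residueField u)
  let φ : U.residueField u ⟶ CommRingCat.of K := CommRingCat.ofHom (algebraMap (U.residueField u) K)
  refine ⟨K, inferInstance, inferInstance, Spec.map φ ≫ U.fromSpecResidueField u, ?_⟩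
  rw [Scheme.Hom.comp_apply]
  exact Scheme.fromSpecResidueField_apply _ _

theorem atLeast_zero (u : U) : AtLeast f 0 u := by
  obtain ⟨Ω, i₁, i₂, w, hw⟩ := exists_geomPoint u
  exact ⟨Ω, i₁, i₂, w, Fin.elim0, hw, fun i => i.elim0, fun i => i.elim0⟩

/-- The space of `n`-tuples of distinct geometric points in a fibre. -/
theorem exists_tuples [IsSeparated f] [Etale f] (n : ℕ) :
    ∃ (P : Scheme.{u}) (p : P ⟶ U) (h : Fin n → (P ⟶ R)), Etale p ∧ (QuasiCompact f → QuasiCompact p) ∧
      (∀ i, h i ≫ f = p) ∧
      (∀ (Ω : Type u) [Field Ω] (x : Spec (CommRingCat.of Ω) ⟶ P), Function.Injective fun i => x ≫ h i) ∧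
      (∀ (Ω : Type u) [Field Ω] (w : Spec (CommRingCat.of Ω) ⟶ U)
        (g : Fin n → (Spec (CommRingCat.of Ω) ⟶ R)), Function.Injective g → (∀ i, g i ≫ f = w) →
        ∃ x : Spec (CommRingCat.of Ω) ⟶ P, x ≫ p = w ∧ ∀ i, x ≫ h i = g i) := by
  induction n with
  | zero =>
    exact ⟨U, 𝟙 U, fun i => i.elim0, inferInstance, fun _ => inferInstance, fun i => i.elim0, fun Ω _ x i => i.elim0,
      fun Ω _ w g _ _ => ⟨w, Category.comp_id w, fun i => i.elim0⟩⟩
  | succ n ih =>
    obtain ⟨P, p, h, hp, hqc, hh, hinj, hcomp⟩ := ih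
    haveI := hp
    let Γ : Fin n → (P ⟶ pullback p f) := fun i => pullback.lift (𝟙 P) (h i) (by rw [Category.id_comp, hh])
    have hΓ : ∀ i, Γ i ≫ pullback.fst p f = 𝟙 P := fun i => pullback.lift_fst _ _ _
    haveI : ∀ i, IsClosedImmersion (Γ i) := fun i => by
      haveI : IsClosedImmersion (Γ i ≫ pullback.fst p f) := by rw [hΓ]; infer_instance
      exact IsClosedImmersion.of_comp (Γ i) (pullback.fst p f)
    haveI : ∀ i, IsOpenImmersion (Γ i) := fun i => by
      haveI : Etale (Γ i ≫ pullback.fst p f) := by rw [hΓ]; infer_instance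
      haveI : Etale (Γ i) := Etale.of_comp (Γ i) (pullback.fst p f)
      exact IsOpenImmersion.of_flat_of_mono _
    let O : (pullback p f).Opens := ⟨(⋃ i, Set.range (Γ i))ᶜ,
      (isClosed_iUnion_of_finite fun i => (Γ i).isClosedEmbedding.isClosed_range).isOpen_compl⟩
    let q : O.toScheme ⟶ P := O.ι ≫ pullback.fst p f
    haveI : IsClosedImmersion O.ι := IsClosedImmersion.of_isPreimmersion _ (by
      rw [Scheme.Opens.range_ι]
      exact (isOpen_iUnion fun i => (Γ i).isOpenEmbedding.isOpen_range).isClosed_compl)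
    refine ⟨O.toScheme, q ≫ p, Fin.cons (O.ι ≫ pullback.snd p f) fun i => q ≫ h i, inferInstance,
      fun hf => ?_, ?_, ?_, ?_⟩
    · haveI := hf; haveI := hqc hf; infer_instance
    · intro i
      induction i using Fin.cases with
      | zero => simp [q, pullback.condition]
      | succ i => simp [hh]
    · intro Ω _ x
      have hc : (fun i => x ≫ (Fin.cons (α := fun _ : Fin (n + 1) => O.toScheme ⟶ R) (O.ι ≫ pullback.snd p f)
          (fun i => q ≫ h i) i)) = Fin.cons (α := fun _ : Fin (n + 1) => Spec (CommRingCat.of Ω) ⟶ R)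
            (x ≫ O.ι ≫ pullback.snd p f) (fun i => (x ≫ q) ≫ h i) := funext fun i => by
          induction i using Fin.cases <;> simp
      rw [hc]
      refine Fin.cons_injective_iff.mpr ⟨?_, hinj Ω (x ≫ q)⟩
      rintro ⟨i, hi⟩
      have e : (x ≫ q) ≫ Γ i = x ≫ O.ι := by
        apply pullback.hom_ext
        · rw [Category.assoc, hΓ, Category.comp_id, Category.assoc]
        · simp only [Γ, Category.assoc, pullback.lift_snd]
          simpa [Category.assoc] using hi
      have h1 : O.ι (x (IsLocalRing.closedPoint Ω)) ∈ O := (x (IsLocalRing.closedPoint Ω)).2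
      refine h1 (Set.mem_iUnion.mpr ⟨i, (x ≫ q) (IsLocalRing.closedPoint Ω), ?_⟩)
      rw [← Scheme.Hom.comp_apply, e, Scheme.Hom.comp_apply]
    · intro Ω _ w g hg hgf
      obtain ⟨x, hx, hxg⟩ := hcomp Ω w (fun i => g i.succ) (hg.comp (Fin.succ_injective n)) fun i => hgf i.succ
      let y : Spec (CommRingCat.of Ω) ⟶ pullback p f := pullback.lift x (g 0) (by rw [hx, hgf])
      have hy : Set.range y ⊆ Set.range O.ι := by
        rintro _ ⟨z, rfl⟩
        rw [Scheme.Opens.range_ι]
        intro hz
        obtain ⟨i, hi⟩ := Set.mem_iUnion.mp hz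
        have hsub : Set.range y ⊆ Set.range (Γ i) := by
          rintro _ ⟨z', rfl⟩
          rwa [Subsingleton.elim z' z]
        have e := IsOpenImmersion.lift_fac (Γ i) y hsub
        have e1 := congrArg (· ≫ pullback.fst p f) e
        simp only [Category.assoc, hΓ, Category.comp_id, y, pullback.lift_fst] at e1
        rw [e1] at e
        have e2 := congrArg (· ≫ pullback.snd p f) e
        simp only [Γ, Category.assoc, y, pullback.lift_snd, hxg] at e2
        exact Fin.succ_ne_zero i (hg e2)
      refine ⟨IsOpenImmersion.lift O.ι y hy, ?_, fun i => ?_⟩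
      · rw [← Category.assoc, ← Category.assoc, IsOpenImmersion.lift_fac, pullback.lift_fst, hx]
      · induction i using Fin.cases with
        | zero => rw [Fin.cons_zero, ← Category.assoc, IsOpenImmersion.lift_fac, pullback.lift_snd]
        | succ i => rw [Fin.cons_succ, ← Category.assoc, ← Category.assoc, IsOpenImmersion.lift_fac,
            pullback.lift_fst, hxg]

theorem isOpen_atLeast [IsSeparated f] [Etale f] (n : ℕ) : IsOpen {u | AtLeast f n u} := by
  obtain ⟨P, p, h, hp, -, hh, hinj, hcomp⟩ := exists_tuples f n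
  haveI := hp
  have : {u | AtLeast f n u} = Set.range p := by
    ext u
    constructor
    · rintro ⟨Ω, i₁, -, w, g, rfl, hg, hgf⟩
      obtain ⟨x, hx, -⟩ := hcomp Ω w g hg hgf
      exact ⟨x (IsLocalRing.closedPoint Ω), by rw [← Scheme.Hom.comp_apply, hx]⟩
    · rintro ⟨z, rfl⟩
      obtain ⟨Ω, i₁, i₂, x, rfl⟩ := exists_geomPoint z
      exact ⟨Ω, i₁, i₂, x ≫ p, fun i => x ≫ h i, Scheme.Hom.comp_apply _ _ _, hinj Ω x,
        fun i => by rw [Category.assoc, hh]⟩
  rw [this]
  exact p.isOpenMap.isOpen_range

/-- For a quasi-compact separated etale morphism the count loci are retrocompact. -/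
theorem isCompact_atLeast [IsSeparated f] [Etale f] [QuasiCompact f] [CompactSpace U] (n : ℕ) :
    IsCompact {u | AtLeast f n u} := by
  obtain ⟨P, p, h, hp, hqc, hh, hinj, hcomp⟩ := exists_tuples f n
  haveI := hqc inferInstance
  haveI : CompactSpace P := QuasiCompact.compactSpace_of_compactSpace p
  have : {u | AtLeast f n u} = Set.range p := by
    ext u
    constructor
    · rintro ⟨Ω, i₁, -, w, g, rfl, hg, hgf⟩
      obtain ⟨x, hx, -⟩ := hcomp Ω w g hg hgf
      exact ⟨x (IsLocalRing.closedPoint Ω), by rw [← Scheme.Hom.comp_apply, hx]⟩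
    · rintro ⟨z, rfl⟩
      obtain ⟨Ω, i₁, i₂, x, rfl⟩ := exists_geomPoint z
      exact ⟨Ω, i₁, i₂, x ≫ p, fun i => x ≫ h i, Scheme.Hom.comp_apply _ _ _, hinj Ω x,
        fun i => by rw [Category.assoc, hh]⟩
  rw [this]
  exact isCompact_range p.continuous

/-- Residue extensions of etale morphisms are finite. -/
theorem finite_residue [Etale f] (r : R) :
    letI : Algebra (U.residueField (f r)) (R.residueField r) := (f.residueFieldMap r).hom.toAlgebra
    Module.Finite (U.residueField (f r)) (R.residueField r) := by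
  letI : Algebra (U.residueField (f r)) (R.residueField r) := (f.residueFieldMap r).hom.toAlgebra
  haveI : Algebra.IsSeparable (U.residueField (f r)) (R.residueField r) := inferInstance
  haveI : Algebra.EssFiniteType (U.residueField (f r)) (R.residueField r) := by
    rw [← RingHom.essFiniteType_algebraMap, RingHom.algebraMap_toAlgebra]
    have h1 := RingHom.EssFiniteType.comp (LocallyOfFiniteType.stalkMap f r)
      (RingHom.FiniteType.of_surjective (R.residue r).hom Ideal.Quotient.mk_surjective).essFiniteType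
    rw [← CommRingCat.hom_comp, ← Scheme.residue_residueFieldMap, CommRingCat.hom_comp] at h1
    exact h1.of_comp
  exact Algebra.finite_of_essFiniteType_of_isAlgebraic

/-- A finite fibre has boundedly many geometric points. -/
theorem exists_not_atLeast [Etale f] (u : U) (hu : (f ⁻¹' {u}).Finite) : ∃ n, ¬ AtLeast f n u := by
  classical
  let deg : R → ℕ := fun r =>
    letI : Algebra (U.residueField (f r)) (R.residueField r) := (f.residueFieldMap r).hom.toAlgebra
    Module.finrank (U.residueField (f r)) (R.residueField r)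
  refine ⟨(∑ r ∈ hu.toFinset, deg r) + 1, ?_⟩
  rintro ⟨Ω, i₁, i₂, w, g, hw, hg, hgf⟩
  have hmem : ∀ i ∈ (Finset.univ : Finset (Fin ((∑ r ∈ hu.toFinset, deg r) + 1))),
      (g i) (IsLocalRing.closedPoint Ω) ∈ hu.toFinset := fun i _ => by
    rw [Set.Finite.mem_toFinset, Set.mem_preimage, Set.mem_singleton_iff, ← Scheme.Hom.comp_apply, hgf, hw]
  suffices H : ∀ r, (Finset.univ.filter fun i => (g i) (IsLocalRing.closedPoint Ω) = r).card ≤ deg r by
    have := (Finset.card_eq_sum_card_fiberwise hmem).trans_le (Finset.sum_le_sum fun r _ => H r)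
    simp at this
  intro r
  rcases (Finset.univ.filter fun i => (g i) (IsLocalRing.closedPoint Ω) = r).eq_empty_or_nonempty with h0 | ⟨i₀, hi₀⟩
  · simp [h0]
  letI : Algebra (U.residueField (f r)) (R.residueField r) := (f.residueFieldMap r).hom.toAlgebra
  haveI := finite_residue f r
  have hdec : ∀ i, (g i) (IsLocalRing.closedPoint Ω) = r →
      ∃ b : R.residueField r ⟶ CommRingCat.of Ω, Spec.map b ≫ R.fromSpecResidueField r = g i := fun i hi => by
    obtain ⟨⟨r', b⟩, e⟩ := (Scheme.SpecToEquivOfField Ω R).symm.surjective (g i)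
    have hr : r' = r := by rw [← hi, ← e]; exact (Scheme.fromSpecResidueField_apply _ _).symm
    subst hr
    exact ⟨b, e⟩
  choose b hb using hdec
  have hi₀' : (g i₀) (IsLocalRing.closedPoint Ω) = r := (Finset.mem_filter.mp hi₀).2
  let a : U.residueField (f r) ⟶ CommRingCat.of Ω := f.residueFieldMap r ≫ b i₀ hi₀'
  have hab : ∀ i hi, f.residueFieldMap r ≫ b i hi = a := fun i hi => by
    have e : ∀ i hi, Spec.map (f.residueFieldMap r ≫ b i hi) ≫ U.fromSpecResidueField (f r) = w := fun i hi => by
      rw [Spec.map_comp, Category.assoc, Scheme.Hom.SpecMap_residueFieldMap_fromSpecResidueField,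
        ← Category.assoc, hb, hgf]
    exact Spec.map_injective ((cancel_mono (U.fromSpecResidueField (f r))).mp ((e i hi).trans (e i₀ hi₀').symm))
  letI : Algebra (U.residueField (f r)) Ω := a.hom.toAlgebra
  let B : {i // (g i) (IsLocalRing.closedPoint Ω) = r} → (R.residueField r →ₐ[U.residueField (f r)] Ω) := fun i =>
    { toRingHom := (b i.1 i.2).hom
      commutes' := fun c => by
        change (f.residueFieldMap r ≫ b i.1 i.2).hom c = a.hom c
        rw [hab] }
  have hB : Function.Injective B := fun i j h => by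
    refine Subtype.ext (hg ?_)
    rw [← hb i.1 i.2, ← hb j.1 j.2, show b i.1 i.2 = b j.1 j.2 from
      CommRingCat.hom_ext (congrArg AlgHom.toRingHom h)]
  haveI : Finite (R.residueField r →ₐ[U.residueField (f r)] Ω) := inferInstance
  calc _ = Nat.card {i // (g i) (IsLocalRing.closedPoint Ω) = r} := by
        rw [Nat.card_eq_fintype_card, Fintype.card_subtype]
    _ ≤ Nat.card (R.residueField r →ₐ[U.residueField (f r)] Ω) := Nat.card_le_card_of_injective B hB
    _ = Field.finSepDegree (U.residueField (f r)) (R.residueField r) :=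
        (Field.finSepDegree_eq_of_isAlgClosed _ _ _).symm
    _ ≤ _ := Field.finSepDegree_le_finrank _ _

end SpectralQuot
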