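import Groth.Agent.SpectralQuot.GeomCount
import Groth.Agent.AlgSpLib.EtLocProp
import Mathlib

/-! A separated etale morphism with constant number of geometric points is finite. -/

set_option autoImplicit false

universe u

open CategoryTheory CategoryTheory.Limits AlgebraicGeometry Topology

noncomputable section

namespace SpectralQuot

/-- A morphism covered by finitely many sections is universally closed. -/
theorem universallyClosed_of_sections {Q P : Scheme.{u}} (g : Q ⟶ P) {ι : Type*} [Finite ι]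
    (Γ : ι → (P ⟶ Q)) (hΓ : ∀ i, Γ i ≫ g = 𝟙 P) (hcov : ∀ q : Q, ∃ i, q ∈ Set.range (Γ i)) :
    UniversallyClosed g := by
  refine ⟨fun {Q' P'} i₁ i₂ g' sq => ?_⟩
  -- sq : IsPullback g' i₁ i₂ g
  let Γ' : ι → (P' ⟶ Q') := fun i => sq.lift (𝟙 P') (i₂ ≫ Γ i)
    (by rw [Category.assoc, hΓ, Category.comp_id, Category.id_comp])
  have hΓ' : ∀ i, Γ' i ≫ g' = 𝟙 P' := fun i => sq.lift_fst _ _ _
  have hcov' : ∀ q : Q', ∃ i, q ∈ Set.range (Γ' i) := fun q => by
    obtain ⟨i, y, hy⟩ := hcov (i₁ q)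
    have e : IsPullback i₂ (Γ' i) (Γ i) i₁ := by
      refine IsPullback.of_bot ?_ (sq.lift_snd _ _ _).symm sq.flip
      rw [hΓ', hΓ]
      exact IsPullback.id_vert i₂
    obtain ⟨z, -, hz⟩ := Scheme.exists_preimage_of_isPullback e y q hy
    exact ⟨i, z, hz⟩
  intro Z hZ
  have e : g' '' Z = ⋃ i, Γ' i ⁻¹' Z := by
    ext y
    simp only [Set.mem_image, Set.mem_iUnion, Set.mem_preimage]
    constructor
    · rintro ⟨q, hq, rfl⟩
      obtain ⟨i, y, rfl⟩ := hcov' q
      refine ⟨i, ?_⟩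
      rw [← Scheme.Hom.comp_apply (Γ' i) g', hΓ']
      exact hq
    · rintro ⟨i, hi⟩
      exact ⟨_, hi, by rw [← Scheme.Hom.comp_apply, hΓ']; rfl⟩
  change IsClosed (g' '' Z)
  rw [e]
  exact isClosed_iUnion_of_finite fun i => hZ.preimage (Γ' i).continuous

/-- A separated etale morphism all of whose fibres have exactly `n` geometric points is finite. -/
theorem isFinite_of_count {R U : Scheme.{u}} (f : R ⟶ U) [IsSeparated f] [Etale f] (n : ℕ)
    (h₁ : ∀ u, AtLeast f n u) (h₂ : ∀ u, ¬ AtLeast f (n + 1) u) : IsFinite f := by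
  obtain ⟨P, p, h, hp, -, hh, hinj, hcomp⟩ := exists_tuples f n
  haveI := hp
  haveI : Surjective p := ⟨fun u => by
    obtain ⟨Ω, i₁, -, w, g, rfl, hg, hgf⟩ := h₁ u
    obtain ⟨x, hx, -⟩ := hcomp Ω w g hg hgf
    exact ⟨x (IsLocalRing.closedPoint Ω), by rw [← Scheme.Hom.comp_apply, hx]⟩⟩
  let Γ : Fin n → (P ⟶ pullback p f) := fun i => pullback.lift (𝟙 P) (h i) (by rw [Category.id_comp, hh])
  have hΓ : ∀ i, Γ i ≫ pullback.fst p f = 𝟙 P := fun i => pullback.lift_fst _ _ _
  haveI : ∀ i, IsOpenImmersion (Γ i) := fun i => by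
    haveI : Etale (Γ i ≫ pullback.fst p f) := by rw [hΓ]; infer_instance
    haveI : Etale (Γ i) := Etale.of_comp (Γ i) (pullback.fst p f)
    haveI : Mono (Γ i) := mono_of_mono_fac (hΓ i)
    exact IsOpenImmersion.of_flat_of_mono _
  have hUC : UniversallyClosed (pullback.fst p f) := by
    refine universallyClosed_of_sections _ Γ hΓ fun q => ?_
    by_contra hne
    push Not at hne
    obtain ⟨Ω, i₁, i₂, x, rfl⟩ := exists_geomPoint q
    refine h₂ _ ⟨Ω, i₁, i₂, (x ≫ pullback.fst p f) ≫ p,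
      Fin.cons (x ≫ pullback.snd p f) fun i => (x ≫ pullback.fst p f) ≫ h i, rfl,
      Fin.cons_injective_iff.mpr ⟨?_, hinj Ω (x ≫ pullback.fst p f)⟩, fun i => ?_⟩
    · rintro ⟨i, hi⟩
      have e : (x ≫ pullback.fst p f) ≫ Γ i = x := by
        apply pullback.hom_ext
        · rw [Category.assoc, hΓ, Category.comp_id]
        · simp only [Γ, Category.assoc, pullback.lift_snd]
          simpa [Category.assoc] using hi
      refine hne i ⟨(x ≫ pullback.fst p f) (IsLocalRing.closedPoint Ω), ?_⟩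
      rw [← Scheme.Hom.comp_apply, e]
    · induction i using Fin.cases with
      | zero => simp [pullback.condition]
      | succ i => simp [hh]
  haveI : UniversallyClosed f :=
    MorphismProperty.of_isPullback_of_descendsAlong (P := @UniversallyClosed)
      (Q := @Surjective ⊓ @Flat ⊓ @LocallyOfFinitePresentation) (IsPullback.of_hasPullback p f)
      ⟨⟨inferInstance, inferInstance⟩, inferInstance⟩ hUC
  haveI : IsProper f := { }
  haveI := AlgSpLib.locallyQuasiFinite_of_etale f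
  exact IsFinite.of_isProper_of_locallyQuasiFinite f

/-- The count only depends on the morphism over an open. -/
theorem atLeast_restrict {R U : Scheme.{u}} (f : R ⟶ U) (V : U.Opens) (n : ℕ) (v : V) :
    AtLeast (f ∣_ V) n v ↔ AtLeast f n v.1 := by
  constructor
  · rintro ⟨Ω, i₁, i₂, w, g, rfl, hg, hgf⟩
    refine ⟨Ω, i₁, i₂, w ≫ V.ι, fun i => g i ≫ (f ⁻¹ᵁ V).ι, rfl,
      fun i j e => hg ((cancel_mono (f ⁻¹ᵁ V).ι).mp e), fun i => ?_⟩
    rw [Category.assoc, ← morphismRestrict_ι, ← Category.assoc, hgf]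
  · rintro ⟨Ω, i₁, i₂, w, g, hw, hg, hgf⟩
    have hr : Set.range w ⊆ Set.range V.ι := by
      rintro _ ⟨z, rfl⟩
      rw [Scheme.Opens.range_ι, Subsingleton.elim z (IsLocalRing.closedPoint Ω), hw]
      exact v.2
    have hr' : ∀ i, Set.range (g i) ⊆ Set.range (f ⁻¹ᵁ V).ι := fun i => by
      rintro _ ⟨z, rfl⟩
      rw [Scheme.Opens.range_ι, Subsingleton.elim z (IsLocalRing.closedPoint Ω)]
      show f ((g i) (IsLocalRing.closedPoint Ω)) ∈ V
      rw [← Scheme.Hom.comp_apply, hgf, hw]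
      exact v.2
    refine ⟨Ω, i₁, i₂, IsOpenImmersion.lift V.ι w hr, fun i => IsOpenImmersion.lift _ (g i) (hr' i), ?_,
      fun i j e => hg (by simpa using congrArg (· ≫ (f ⁻¹ᵁ V).ι) e), fun i => ?_⟩
    · refine Subtype.ext ?_
      rw [← Scheme.Opens.ι_apply, ← Scheme.Hom.comp_apply, IsOpenImmersion.lift_fac, hw]
    · rw [← cancel_mono V.ι, Category.assoc, morphismRestrict_ι, ← Category.assoc, IsOpenImmersion.lift_fac,
        IsOpenImmersion.lift_fac, hgf]

/-- Finiteness over an open with constant count. -/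
theorem isFinite_restrict {R U : Scheme.{u}} (f : R ⟶ U) [IsSeparated f] [Etale f] (V : U.Opens) (n : ℕ)
    (h₁ : ∀ u ∈ V, AtLeast f n u) (h₂ : ∀ u ∈ V, ¬ AtLeast f (n + 1) u) : IsFinite (f ∣_ V) := by
  haveI : Etale (f ∣_ V) := IsZariskiLocalAtTarget.restrict ‹Etale f› V
  exact isFinite_of_count _ n (fun v => (atLeast_restrict f V n v).mpr (h₁ _ v.2))
    fun v => mt (atLeast_restrict f V _ v).mp (h₂ _ v.2)

end SpectralQuot
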